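import Cfsg.Agent.Lib.H35.TCM23B.Data
import Cfsg.Agent.Lib.H35.TC
set_option autoImplicit false
set_option maxRecDepth 100000
set_option linter.all false
namespace H35.TCM23B
open H35.TC
/-- letters -/
inductive Lt | b | bi | d | di | e | ei | z | zi
  deriving DecidableEq
/-- inverse letter -/
def inv : Lt → Lt
  | .b => .bi
  | .bi => .b
  | .d => .di
  | .di => .d
  | .e => .ei
  | .ei => .e
  | .z => .zi
  | .zi => .z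
/-- table functions -/
noncomputable def T : Lt → ℕ → ℕ
  | .b => T_b
  | .bi => T_bi
  | .d => T_d
  | .di => T_di
  | .e => T_e
  | .ei => T_ei
  | .z => T_z
  | .zi => T_zi
/-- decoding of letter codes -/
def lt : ℕ → Lt
  | 0 => .b
  | 1 => .bi
  | 2 => .d
  | 3 => .di
  | 4 => .e
  | 5 => .ei
  | 6 => .z
  | _ => .zi
/-- Coxeter matrix (0: no relation) -/
def mm : Lt → Lt → ℕ
  | _, _ => 0
/-- extra relators `w ^ n` -/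
def extra : List (List Lt × ℕ) := [
  ([.z, .e, .zi, .ei], 1),
  ([.z, .d, .zi, .di], 1),
  ([.z, .b, .zi, .bi], 1),
  ([.e], 5),
  ([.d], 5),
  ([.d, .bi, .di, .b, .b, .b], 1),
  ([.z], 6),
  ([.d, .d, .b, .di, .di, .b, .b], 1),
  ([.di, .bi, .d, .b, .b, .b, .b], 1),
  ([.b, .e, .d, .b, .e, .d, .zi], 1),
  ([.di, .b, .b, .d, .b, .b, .b], 1),
  ([.d, .b, .di, .bi, .d, .bi, .di, .b], 1),
  ([.d, .bi, .d, .b, .di, .b, .di, .b, .b], 1),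
  ([.d, .b, .d, .b, .di, .bi, .di, .b, .b], 1),
  ([.b], 11),
  ([.d, .b, .b, .d, .b, .di, .bi, .bi, .di, .b, .b], 1),
  ([.di, .bi, .di, .ei, .d, .e, .di, .e, .d, .b, .d, .e], 1),
  ([.b, .ei, .bi, .e, .b, .ei, .bi, .ei, .b, .e, .bi, .d], 1),
  ([.bi, .e, .bi, .bi, .ei, .di, .di, .e, .b, .b, .ei, .b, .d], 1),
  ([.bi, .e, .bi, .bi, .ei, .d, .e, .b, .b, .ei, .b, .d, .d], 1),
  ([.b, .e, .di, .bi, .d, .e, .di, .b, .d, .ei, .bi, .e, .e], 1),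
  ([.bi, .d, .bi, .e, .d, .ei, .di, .ei, .b, .di, .b, .e, .e], 1),
  ([.bi, .di, .e, .b, .e, .di, .di, .ei, .bi, .ei, .d, .b, .e], 1),
  ([.ei, .bi, .ei, .d, .b, .e, .e, .bi, .di, .e, .b, .e, .d], 1),
  ([.b, .bi], 1),
  ([.bi, .b], 1),
  ([.d, .di], 1),
  ([.di, .d], 1),
  ([.e, .ei], 1),
  ([.ei, .e], 1),
  ([.z, .zi], 1),
  ([.zi, .z], 1)]
/-- relators -/
def rels : List (List Lt) := mkRels [] mm extra
/-- subgroup words -/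
def subs : List (List Lt) := [
  [.b]]
noncomputable def dp_b_0 (j u : ℕ) : Bool :=
  Bool.rec (motive := fun _ => Bool) (lF [T_di, T_bi, T_bi, T_bi, T_d] M (Nat.sub (T_b u) (Nat.mod (T_b u) M)) (Nat.mod (T_b u) M) u) (lF [T_e, T_d, T_zi, T_b, T_e, T_d] M (Nat.sub (T_b u) (Nat.mod (T_b u) M)) (Nat.mod (T_b u) M) u) (Nat.ble (nat_lit 7) j)
noncomputable def dp_b_1 (j u : ℕ) : Bool :=
  Bool.rec (motive := fun _ => Bool) (lF [T_b, T_b, T_d, T_bi, T_di] M (Nat.sub (T_b u) (Nat.mod (T_b u) M)) (Nat.mod (T_b u) M) u) (lS MG [T_d, T_bi, T_di, T_b, T_b] M (Nat.sub (T_b u) (Nat.mod (T_b u) M)) (nat_lit 40) (Nat.mod (T_b u) M) u) (Nat.ble (nat_lit 9) j)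
noncomputable def dp_b_2 (j u : ℕ) : Bool :=
  Bool.rec (motive := fun _ => Bool) (lF [T_b, T_d, T_bi, T_di, T_b] M (Nat.sub (T_b u) (Nat.mod (T_b u) M)) (Nat.mod (T_b u) M) u) (lS MG [T_e, T_d, T_zi, T_b, T_e, T_d] M (Nat.sub (T_b u) (Nat.mod (T_b u) M)) (nat_lit 40) (Nat.mod (T_b u) M) u) (Nat.ble (nat_lit 12) j)
noncomputable def dp_b_3 (j u : ℕ) : Bool :=
  Bool.rec (motive := fun _ => Bool) (lF [T_d, T_bi, T_di, T_b, T_b] M (Nat.sub (T_b u) (Nat.mod (T_b u) M)) (Nat.mod (T_b u) M) u) (dp_b_2 j u) (Nat.ble (nat_lit 11) j)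
noncomputable def dp_b_4 (j u : ℕ) : Bool :=
  Bool.rec (motive := fun _ => Bool) (dp_b_1 j u) (dp_b_3 j u) (Nat.ble (nat_lit 10) j)
noncomputable def dp_b_5 (j u : ℕ) : Bool :=
  Bool.rec (motive := fun _ => Bool) (dp_b_0 j u) (dp_b_4 j u) (Nat.ble (nat_lit 8) j)
noncomputable def dp_b_6 (j u : ℕ) : Bool :=
  Bool.rec (motive := fun _ => Bool) (lF [T_b, T_d, T_b, T_b, T_b, T_di] M (Nat.sub (T_b u) (Nat.mod (T_b u) M)) (Nat.mod (T_b u) M) u) (lF [T_d, T_b, T_b, T_b, T_di, T_b] M (Nat.sub (T_b u) (Nat.mod (T_b u) M)) (Nat.mod (T_b u) M) u) (Nat.ble (nat_lit 15) j)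
noncomputable def dp_b_7 (j u : ℕ) : Bool :=
  Bool.rec (motive := fun _ => Bool) (lS MG [T_b, T_d, T_bi, T_di, T_b] M (Nat.sub (T_b u) (Nat.mod (T_b u) M)) (nat_lit 40) (Nat.mod (T_b u) M) u) (dp_b_6 j u) (Nat.ble (nat_lit 14) j)
noncomputable def dp_b_8 (j u : ℕ) : Bool :=
  Bool.rec (motive := fun _ => Bool) (lS MG [T_di, T_bi, T_bi, T_bi, T_d] M (Nat.sub (T_b u) (Nat.mod (T_b u) M)) (nat_lit 40) (Nat.mod (T_b u) M) u) (lF [T_b, T_b, T_di, T_b, T_b, T_d] M (Nat.sub (T_b u) (Nat.mod (T_b u) M)) (Nat.mod (T_b u) M) u) (Nat.ble (nat_lit 17) j)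
noncomputable def dp_b_9 (j u : ℕ) : Bool :=
  Bool.rec (motive := fun _ => Bool) (lF [T_b, T_di, T_b, T_b, T_d, T_b] M (Nat.sub (T_b u) (Nat.mod (T_b u) M)) (Nat.mod (T_b u) M) u) (lF [T_b, T_d, T_d, T_b, T_di, T_di] M (Nat.sub (T_b u) (Nat.mod (T_b u) M)) (Nat.mod (T_b u) M) u) (Nat.ble (nat_lit 20) j)
noncomputable def dp_b_10 (j u : ℕ) : Bool :=
  Bool.rec (motive := fun _ => Bool) (lF [T_di, T_di, T_b, T_b, T_d, T_d] M (Nat.sub (T_b u) (Nat.mod (T_b u) M)) (Nat.mod (T_b u) M) u) (dp_b_9 j u) (Nat.ble (nat_lit 19) j)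
noncomputable def dp_b_11 (j u : ℕ) : Bool :=
  Bool.rec (motive := fun _ => Bool) (dp_b_8 j u) (dp_b_10 j u) (Nat.ble (nat_lit 18) j)
noncomputable def dp_b_12 (j u : ℕ) : Bool :=
  Bool.rec (motive := fun _ => Bool) (dp_b_7 j u) (dp_b_11 j u) (Nat.ble (nat_lit 16) j)
noncomputable def dp_b_13 (j u : ℕ) : Bool :=
  Bool.rec (motive := fun _ => Bool) (lF [T_di, T_bi, T_d, T_b, T_b, T_b] M (Nat.sub (T_b u) (Nat.mod (T_b u) M)) (Nat.mod (T_b u) M) u) (lS MG [T_zi, T_bi, T_z] M (Nat.sub (T_b u) (Nat.mod (T_b u) M)) (nat_lit 40) (Nat.mod (T_b u) M) u) (Nat.ble (nat_lit 23) j)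
noncomputable def dp_b_14 (j u : ℕ) : Bool :=
  Bool.rec (motive := fun _ => Bool) (lS MG [T_b, T_b, T_d, T_bi, T_di] M (Nat.sub (T_b u) (Nat.mod (T_b u) M)) (nat_lit 40) (Nat.mod (T_b u) M) u) (dp_b_13 j u) (Nat.ble (nat_lit 22) j)
noncomputable def dp_b_15 (j u : ℕ) : Bool :=
  Bool.rec (motive := fun _ => Bool) (lS MG [T_z, T_bi, T_zi] M (Nat.sub (T_b u) (Nat.mod (T_b u) M)) (nat_lit 40) (Nat.mod (T_b u) M) u) (lS MG [T_ei, T_bi, T_ei, T_b, T_e, T_bi, T_d, T_b, T_ei, T_bi, T_e] M (Nat.sub (T_b u) (Nat.mod (T_b u) M)) (nat_lit 40) (Nat.mod (T_b u) M) u) (Nat.ble (nat_lit 26) j)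
noncomputable def dp_b_16 (j u : ℕ) : Bool :=
  Bool.rec (motive := fun _ => Bool) (lS MG [T_e, T_d, T_b, T_e, T_d, T_zi] M (Nat.sub (T_b u) (Nat.mod (T_b u) M)) (nat_lit 40) (Nat.mod (T_b u) M) u) (dp_b_15 j u) (Nat.ble (nat_lit 25) j)
noncomputable def dp_b_17 (j u : ℕ) : Bool :=
  Bool.rec (motive := fun _ => Bool) (dp_b_14 j u) (dp_b_16 j u) (Nat.ble (nat_lit 24) j)
noncomputable def dp_b_18 (j u : ℕ) : Bool :=
  Bool.rec (motive := fun _ => Bool) (lF [T_d, T_bi, T_bi, T_bi, T_bi, T_di] M (Nat.sub (T_b u) (Nat.mod (T_b u) M)) (Nat.mod (T_b u) M) u) (lS MG [T_di, T_bi, T_d, T_b, T_b, T_b] M (Nat.sub (T_b u) (Nat.mod (T_b u) M)) (nat_lit 40) (Nat.mod (T_b u) M) u) (Nat.ble (nat_lit 28) j)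
noncomputable def dp_b_19 (j u : ℕ) : Bool :=
  Bool.rec (motive := fun _ => Bool) (lS MG [T_b, T_d, T_d, T_b, T_di, T_di] M (Nat.sub (T_b u) (Nat.mod (T_b u) M)) (nat_lit 40) (Nat.mod (T_b u) M) u) (lS MG [T_e, T_bi, T_di, T_b, T_ei, T_bi, T_e, T_b, T_e, T_bi, T_ei] M (Nat.sub (T_b u) (Nat.mod (T_b u) M)) (nat_lit 40) (Nat.mod (T_b u) M) u) (Nat.ble (nat_lit 30) j)
noncomputable def dp_b_20 (j u : ℕ) : Bool :=
  Bool.rec (motive := fun _ => Bool) (lS MG [T_di, T_di, T_b, T_b, T_d, T_d] M (Nat.sub (T_b u) (Nat.mod (T_b u) M)) (nat_lit 40) (Nat.mod (T_b u) M) u) (lS MG [T_d, T_d, T_b, T_di, T_di, T_b] M (Nat.sub (T_b u) (Nat.mod (T_b u) M)) (nat_lit 40) (Nat.mod (T_b u) M) u) (Nat.ble (nat_lit 32) j)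
noncomputable def dp_b_21 (j u : ℕ) : Bool :=
  Bool.rec (motive := fun _ => Bool) (dp_b_19 j u) (dp_b_20 j u) (Nat.ble (nat_lit 31) j)
noncomputable def dp_b_22 (j u : ℕ) : Bool :=
  Bool.rec (motive := fun _ => Bool) (dp_b_18 j u) (dp_b_21 j u) (Nat.ble (nat_lit 29) j)
noncomputable def dp_b_23 (j u : ℕ) : Bool :=
  Bool.rec (motive := fun _ => Bool) (lS MG [T_d, T_bi, T_bi, T_bi, T_bi, T_di] M (Nat.sub (T_b u) (Nat.mod (T_b u) M)) (nat_lit 40) (Nat.mod (T_b u) M) u) (lS MG [T_e, T_bi, T_d, T_b, T_ei, T_bi, T_e, T_b, T_ei, T_bi, T_ei] M (Nat.sub (T_b u) (Nat.mod (T_b u) M)) (nat_lit 40) (Nat.mod (T_b u) M) u) (Nat.ble (nat_lit 34) j)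
noncomputable def dp_b_24 (j u : ℕ) : Bool :=
  Bool.rec (motive := fun _ => Bool) (lH [] [] M (Nat.sub (T_b u) (Nat.mod (T_b u) M)) (Nat.mod (T_b u) M) u) (lF [T_e, T_di, T_bi, T_d, T_ei, T_di, T_b, T_d, T_ei, T_bi, T_ei, T_ei] M (Nat.sub (T_b u) (Nat.mod (T_b u) M)) (Nat.mod (T_b u) M) u) (Nat.ble (nat_lit 36) j)
noncomputable def dp_b_25 (j u : ℕ) : Bool :=
  Bool.rec (motive := fun _ => Bool) (lF [T_b, T_di, T_bi, T_d, T_b, T_b] M (Nat.sub (T_b u) (Nat.mod (T_b u) M)) (Nat.mod (T_b u) M) u) (lF [T_e, T_di, T_di, T_ei, T_bi, T_ei, T_d, T_b, T_e, T_bi, T_di, T_e] M (Nat.sub (T_b u) (Nat.mod (T_b u) M)) (Nat.mod (T_b u) M) u) (Nat.ble (nat_lit 38) j)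
noncomputable def dp_b_26 (j u : ℕ) : Bool :=
  Bool.rec (motive := fun _ => Bool) (dp_b_24 j u) (dp_b_25 j u) (Nat.ble (nat_lit 37) j)
noncomputable def dp_b_27 (j u : ℕ) : Bool :=
  Bool.rec (motive := fun _ => Bool) (dp_b_23 j u) (dp_b_26 j u) (Nat.ble (nat_lit 35) j)
noncomputable def dp_b_28 (j u : ℕ) : Bool :=
  Bool.rec (motive := fun _ => Bool) (lS MG [T_b, T_d, T_b, T_b, T_b, T_di] M (Nat.sub (T_b u) (Nat.mod (T_b u) M)) (nat_lit 40) (Nat.mod (T_b u) M) u) (lS MG [T_d, T_bi, T_di, T_bi, T_d, T_b, T_di] M (Nat.sub (T_b u) (Nat.mod (T_b u) M)) (nat_lit 40) (Nat.mod (T_b u) M) u) (Nat.ble (nat_lit 40) j)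
noncomputable def dp_b_29 (j u : ℕ) : Bool :=
  Bool.rec (motive := fun _ => Bool) (lF [T_e, T_d, T_d, T_ei, T_bi, T_ei, T_d, T_b, T_ei, T_bi, T_di, T_e] M (Nat.sub (T_b u) (Nat.mod (T_b u) M)) (Nat.mod (T_b u) M) u) (lS MG [T_b, T_di, T_b, T_b, T_d, T_b] M (Nat.sub (T_b u) (Nat.mod (T_b u) M)) (nat_lit 40) (Nat.mod (T_b u) M) u) (Nat.ble (nat_lit 42) j)
noncomputable def dp_b_30 (j u : ℕ) : Bool :=
  Bool.rec (motive := fun _ => Bool) (dp_b_28 j u) (dp_b_29 j u) (Nat.ble (nat_lit 41) j)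
noncomputable def dp_b_31 (j u : ℕ) : Bool :=
  Bool.rec (motive := fun _ => Bool) (lS MG [T_ei, T_bi, T_e, T_b, T_e, T_bi, T_ei, T_b, T_e, T_bi, T_di] M (Nat.sub (T_b u) (Nat.mod (T_b u) M)) (nat_lit 40) (Nat.mod (T_b u) M) u) (lF [T_e, T_bi, T_ei, T_b, T_e, T_bi, T_di, T_b, T_ei, T_bi, T_e] M (Nat.sub (T_b u) (Nat.mod (T_b u) M)) (Nat.mod (T_b u) M) u) (Nat.ble (nat_lit 44) j)
noncomputable def dp_b_32 (j u : ℕ) : Bool :=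
  Bool.rec (motive := fun _ => Bool) (lF [T_d, T_b, T_di, T_bi, T_d, T_bi, T_di] M (Nat.sub (T_b u) (Nat.mod (T_b u) M)) (Nat.mod (T_b u) M) u) (lF [T_di, T_b, T_b, T_d, T_b, T_b] M (Nat.sub (T_b u) (Nat.mod (T_b u) M)) (Nat.mod (T_b u) M) u) (Nat.ble (nat_lit 47) j)
noncomputable def dp_b_33 (j u : ℕ) : Bool :=
  Bool.rec (motive := fun _ => Bool) (lF [T_e, T_d, T_ei, T_bi, T_ei, T_d, T_b, T_e, T_e, T_bi, T_di, T_e] M (Nat.sub (T_b u) (Nat.mod (T_b u) M)) (Nat.mod (T_b u) M) u) (dp_b_32 j u) (Nat.ble (nat_lit 46) j)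
noncomputable def dp_b_34 (j u : ℕ) : Bool :=
  Bool.rec (motive := fun _ => Bool) (dp_b_31 j u) (dp_b_33 j u) (Nat.ble (nat_lit 45) j)
noncomputable def dp_b_35 (j u : ℕ) : Bool :=
  Bool.rec (motive := fun _ => Bool) (dp_b_30 j u) (dp_b_34 j u) (Nat.ble (nat_lit 43) j)
noncomputable def dp_b_36 (j u : ℕ) : Bool :=
  Bool.rec (motive := fun _ => Bool) (dp_b_27 j u) (dp_b_35 j u) (Nat.ble (nat_lit 39) j)
noncomputable def dp_b_37 (j u : ℕ) : Bool :=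
  Bool.rec (motive := fun _ => Bool) (dp_b_22 j u) (dp_b_36 j u) (Nat.ble (nat_lit 33) j)
noncomputable def dp_b_38 (j u : ℕ) : Bool :=
  Bool.rec (motive := fun _ => Bool) (dp_b_17 j u) (dp_b_37 j u) (Nat.ble (nat_lit 27) j)
noncomputable def dp_b_39 (j u : ℕ) : Bool :=
  Bool.rec (motive := fun _ => Bool) (dp_b_12 j u) (dp_b_38 j u) (Nat.ble (nat_lit 21) j)
noncomputable def dp_b_40 (j u : ℕ) : Bool :=
  Bool.rec (motive := fun _ => Bool) (dp_b_5 j u) (dp_b_39 j u) (Nat.ble (nat_lit 13) j)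
noncomputable def dp_b_41 (j u : ℕ) : Bool :=
  Bool.rec (motive := fun _ => Bool) (Bool.rec (motive := fun _ => Bool) (lF3 T_zi T_bi T_z M (Nat.sub (T_b u) (Nat.mod (T_b u) M)) (Nat.mod (T_b u) M) u) (lF3 T_z T_bi T_zi M (Nat.sub (T_b u) (Nat.mod (T_b u) M)) (Nat.mod (T_b u) M) u) (Nat.ble (nat_lit 5) j)) (dp_b_40 j u) (Nat.ble (nat_lit 6) j)
noncomputable def disp_b (j u : ℕ) : Bool :=
  Bool.rec (motive := fun _ => Bool) (Bool.rec (motive := fun _ => Bool) (lF1 T_bi M (Nat.sub (T_b u) (Nat.mod (T_b u) M)) (Nat.mod (T_b u) M) u) (lDef P (nat_lit 1) u (Nat.mod (T_b u) M)) (Nat.ble (nat_lit 1) j)) (Bool.rec (motive := fun _ => Bool) (Bool.rec (motive := fun _ => Bool) (lDef P (nat_lit 0) (Nat.mod (T_b u) M) u) (lS MG [T_bi] M (Nat.sub (T_b u) (Nat.mod (T_b u) M)) (nat_lit 40) (Nat.mod (T_b u) M) u) (Nat.ble (nat_lit 3) j)) (dp_b_41 j u) (Nat.ble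 (nat_lit 4) j)) (Nat.ble (nat_lit 2) j)
noncomputable def chk_b (j u : ℕ) : Bool :=
  Bool.rec (motive := fun _ => Bool) (disp_b j u) (Nat.ble (Nat.succ (MG u)) A) (Nat.ble A (T_b u))
noncomputable def dp_bi_0 (j u : ℕ) : Bool :=
  Bool.rec (motive := fun _ => Bool) (lF3 T_z T_b T_zi M (Nat.sub (T_bi u) (Nat.mod (T_bi u) M)) (Nat.mod (T_bi u) M) u) (lF [T_di, T_b, T_b, T_b, T_d] M (Nat.sub (T_bi u) (Nat.mod (T_bi u) M)) (Nat.mod (T_bi u) M) u) (Nat.ble (nat_lit 6) j)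
noncomputable def dp_bi_1 (j u : ℕ) : Bool :=
  Bool.rec (motive := fun _ => Bool) (lF [T_bi, T_bi, T_d, T_b, T_di] M (Nat.sub (T_bi u) (Nat.mod (T_bi u) M)) (Nat.mod (T_bi u) M) u) (lF [T_z, T_di, T_ei, T_bi, T_di, T_ei] M (Nat.sub (T_bi u) (Nat.mod (T_bi u) M)) (Nat.mod (T_bi u) M) u) (Nat.ble (nat_lit 9) j)
noncomputable def dp_bi_2 (j u : ℕ) : Bool :=
  Bool.rec (motive := fun _ => Bool) (lF [T_bi, T_d, T_b, T_di, T_bi] M (Nat.sub (T_bi u) (Nat.mod (T_bi u) M)) (Nat.mod (T_bi u) M) u) (dp_bi_1 j u) (Nat.ble (nat_lit 8) j)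
noncomputable def dp_bi_3 (j u : ℕ) : Bool :=
  Bool.rec (motive := fun _ => Bool) (lS MG [T_bi, T_bi, T_d, T_b, T_di] M (Nat.sub (T_bi u) (Nat.mod (T_bi u) M)) (nat_lit 40) (Nat.mod (T_bi u) M) u) (lF [T_d, T_b, T_di, T_bi, T_bi] M (Nat.sub (T_bi u) (Nat.mod (T_bi u) M)) (Nat.mod (T_bi u) M) u) (Nat.ble (nat_lit 11) j)
noncomputable def dp_bi_4 (j u : ℕ) : Bool :=
  Bool.rec (motive := fun _ => Bool) (lF [T_di, T_ei, T_bi, T_z, T_di, T_ei] M (Nat.sub (T_bi u) (Nat.mod (T_bi u) M)) (Nat.mod (T_bi u) M) u) (lS MG [T_di, T_b, T_b, T_b, T_d] M (Nat.sub (T_bi u) (Nat.mod (T_bi u) M)) (nat_lit 40) (Nat.mod (T_bi u) M) u) (Nat.ble (nat_lit 13) j)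
noncomputable def dp_bi_5 (j u : ℕ) : Bool :=
  Bool.rec (motive := fun _ => Bool) (dp_bi_3 j u) (dp_bi_4 j u) (Nat.ble (nat_lit 12) j)
noncomputable def dp_bi_6 (j u : ℕ) : Bool :=
  Bool.rec (motive := fun _ => Bool) (dp_bi_2 j u) (dp_bi_5 j u) (Nat.ble (nat_lit 10) j)
noncomputable def dp_bi_7 (j u : ℕ) : Bool :=
  Bool.rec (motive := fun _ => Bool) (lS MG [T_bi, T_d, T_b, T_di, T_bi] M (Nat.sub (T_bi u) (Nat.mod (T_bi u) M)) (nat_lit 40) (Nat.mod (T_bi u) M) u) (lS MG [T_d, T_b, T_di, T_bi, T_bi] M (Nat.sub (T_bi u) (Nat.mod (T_bi u) M)) (nat_lit 40) (Nat.mod (T_bi u) M) u) (Nat.ble (nat_lit 15) j)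
noncomputable def dp_bi_8 (j u : ℕ) : Bool :=
  Bool.rec (motive := fun _ => Bool) (lS MG [T_di, T_ei, T_bi, T_z, T_di, T_ei] M (Nat.sub (T_bi u) (Nat.mod (T_bi u) M)) (nat_lit 40) (Nat.mod (T_bi u) M) u) (lF [T_d, T_b, T_b, T_b, T_b, T_di] M (Nat.sub (T_bi u) (Nat.mod (T_bi u) M)) (Nat.mod (T_bi u) M) u) (Nat.ble (nat_lit 17) j)
noncomputable def dp_bi_9 (j u : ℕ) : Bool :=
  Bool.rec (motive := fun _ => Bool) (lF [T_bi, T_bi, T_di, T_b, T_d, T_bi] M (Nat.sub (T_bi u) (Nat.mod (T_bi u) M)) (Nat.mod (T_bi u) M) u) (lF [T_bi, T_d, T_d, T_bi, T_di, T_di] M (Nat.sub (T_bi u) (Nat.mod (T_bi u) M)) (Nat.mod (T_bi u) M) u) (Nat.ble (nat_lit 19) j)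
noncomputable def dp_bi_10 (j u : ℕ) : Bool :=
  Bool.rec (motive := fun _ => Bool) (dp_bi_8 j u) (dp_bi_9 j u) (Nat.ble (nat_lit 18) j)
noncomputable def dp_bi_11 (j u : ℕ) : Bool :=
  Bool.rec (motive := fun _ => Bool) (dp_bi_7 j u) (dp_bi_10 j u) (Nat.ble (nat_lit 16) j)
noncomputable def dp_bi_12 (j u : ℕ) : Bool :=
  Bool.rec (motive := fun _ => Bool) (lS MG [T_zi, T_b, T_z] M (Nat.sub (T_bi u) (Nat.mod (T_bi u) M)) (nat_lit 40) (Nat.mod (T_bi u) M) u) (lS MG [T_z, T_b, T_zi] M (Nat.sub (T_bi u) (Nat.mod (T_bi u) M)) (nat_lit 40) (Nat.mod (T_bi u) M) u) (Nat.ble (nat_lit 22) j)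
noncomputable def dp_bi_13 (j u : ℕ) : Bool :=
  Bool.rec (motive := fun _ => Bool) (lS MG [T_z, T_di, T_ei, T_bi, T_di, T_ei] M (Nat.sub (T_bi u) (Nat.mod (T_bi u) M)) (nat_lit 40) (Nat.mod (T_bi u) M) u) (dp_bi_12 j u) (Nat.ble (nat_lit 21) j)
noncomputable def dp_bi_14 (j u : ℕ) : Bool :=
  Bool.rec (motive := fun _ => Bool) (lF [T_di, T_di, T_bi, T_bi, T_d, T_d] M (Nat.sub (T_bi u) (Nat.mod (T_bi u) M)) (Nat.mod (T_bi u) M) u) (lS MG [T_ei, T_b, T_e, T_bi, T_d, T_b, T_ei, T_bi, T_e, T_b, T_ei] M (Nat.sub (T_bi u) (Nat.mod (T_bi u) M)) (nat_lit 40) (Nat.mod (T_bi u) M) u) (Nat.ble (nat_lit 25) j)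
noncomputable def dp_bi_15 (j u : ℕ) : Bool :=
  Bool.rec (motive := fun _ => Bool) (lS MG [T_ei, T_b, T_e, T_bi, T_di, T_b, T_ei, T_bi, T_e, T_b, T_e] M (Nat.sub (T_bi u) (Nat.mod (T_bi u) M)) (nat_lit 40) (Nat.mod (T_bi u) M) u) (dp_bi_14 j u) (Nat.ble (nat_lit 24) j)
noncomputable def dp_bi_16 (j u : ℕ) : Bool :=
  Bool.rec (motive := fun _ => Bool) (lF [T_bi, T_bi, T_bi, T_di, T_b, T_d] M (Nat.sub (T_bi u) (Nat.mod (T_bi u) M)) (Nat.mod (T_bi u) M) u) (lS MG [T_bi, T_bi, T_di, T_bi, T_bi, T_d] M (Nat.sub (T_bi u) (Nat.mod (T_bi u) M)) (nat_lit 40) (Nat.mod (T_bi u) M) u) (Nat.ble (nat_lit 27) j)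
noncomputable def dp_bi_17 (j u : ℕ) : Bool :=
  Bool.rec (motive := fun _ => Bool) (lF [T_e, T_b, T_ei, T_bi, T_ei, T_b, T_e, T_bi, T_d, T_b, T_ei] M (Nat.sub (T_bi u) (Nat.mod (T_bi u) M)) (Nat.mod (T_bi u) M) u) (lS MG [T_bi, T_d, T_d, T_bi, T_di, T_di] M (Nat.sub (T_bi u) (Nat.mod (T_bi u) M)) (nat_lit 40) (Nat.mod (T_bi u) M) u) (Nat.ble (nat_lit 29) j)
noncomputable def dp_bi_18 (j u : ℕ) : Bool :=
  Bool.rec (motive := fun _ => Bool) (dp_bi_16 j u) (dp_bi_17 j u) (Nat.ble (nat_lit 28) j)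
noncomputable def dp_bi_19 (j u : ℕ) : Bool :=
  Bool.rec (motive := fun _ => Bool) (dp_bi_15 j u) (dp_bi_18 j u) (Nat.ble (nat_lit 26) j)
noncomputable def dp_bi_20 (j u : ℕ) : Bool :=
  Bool.rec (motive := fun _ => Bool) (dp_bi_13 j u) (dp_bi_19 j u) (Nat.ble (nat_lit 23) j)
noncomputable def dp_bi_21 (j u : ℕ) : Bool :=
  Bool.rec (motive := fun _ => Bool) (lS MG [T_bi, T_d, T_bi, T_bi, T_bi, T_di] M (Nat.sub (T_bi u) (Nat.mod (T_bi u) M)) (nat_lit 40) (Nat.mod (T_bi u) M) u) (lF [T_di, T_b, T_ei, T_bi, T_e, T_b, T_e, T_bi, T_ei, T_b, T_e] M (Nat.sub (T_bi u) (Nat.mod (T_bi u) M)) (Nat.mod (T_bi u) M) u) (Nat.ble (nat_lit 31) j)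
noncomputable def dp_bi_22 (j u : ℕ) : Bool :=
  Bool.rec (motive := fun _ => Bool) (lF [T_d, T_b, T_ei, T_bi, T_e, T_b, T_ei, T_bi, T_ei, T_b, T_e] M (Nat.sub (T_bi u) (Nat.mod (T_bi u) M)) (Nat.mod (T_bi u) M) u) (lF [T_bi, T_ei, T_d, T_e, T_b, T_b, T_ei, T_b, T_d, T_d, T_bi, T_e] M (Nat.sub (T_bi u) (Nat.mod (T_bi u) M)) (Nat.mod (T_bi u) M) u) (Nat.ble (nat_lit 33) j)
noncomputable def dp_bi_23 (j u : ℕ) : Bool :=
  Bool.rec (motive := fun _ => Bool) (dp_bi_21 j u) (dp_bi_22 j u) (Nat.ble (nat_lit 32) j)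
noncomputable def dp_bi_24 (j u : ℕ) : Bool :=
  Bool.rec (motive := fun _ => Bool) (lF [T_bi, T_bi, T_di, T_bi, T_bi, T_d] M (Nat.sub (T_bi u) (Nat.mod (T_bi u) M)) (Nat.mod (T_bi u) M) u) (lS MG [T_bi, T_bi, T_bi, T_di, T_b, T_d] M (Nat.sub (T_bi u) (Nat.mod (T_bi u) M)) (nat_lit 40) (Nat.mod (T_bi u) M) u) (Nat.ble (nat_lit 35) j)
noncomputable def dp_bi_25 (j u : ℕ) : Bool :=
  Bool.rec (motive := fun _ => Bool) (lF [T_d, T_bi, T_bi, T_bi, T_di, T_bi] M (Nat.sub (T_bi u) (Nat.mod (T_bi u) M)) (Nat.mod (T_bi u) M) u) (lF [T_ei, T_d, T_b, T_ei, T_bi, T_di, T_e, T_b, T_e, T_d, T_d, T_ei] M (Nat.sub (T_bi u) (Nat.mod (T_bi u) M)) (Nat.mod (T_bi u) M) u) (Nat.ble (nat_lit 38) j)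
noncomputable def dp_bi_26 (j u : ℕ) : Bool :=
  Bool.rec (motive := fun _ => Bool) (lF [T_e, T_d, T_ei, T_di, T_ei, T_b, T_di, T_b, T_e, T_e, T_bi, T_d] M (Nat.sub (T_bi u) (Nat.mod (T_bi u) M)) (Nat.mod (T_bi u) M) u) (dp_bi_25 j u) (Nat.ble (nat_lit 37) j)
noncomputable def dp_bi_27 (j u : ℕ) : Bool :=
  Bool.rec (motive := fun _ => Bool) (dp_bi_24 j u) (dp_bi_26 j u) (Nat.ble (nat_lit 36) j)
noncomputable def dp_bi_28 (j u : ℕ) : Bool :=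
  Bool.rec (motive := fun _ => Bool) (dp_bi_23 j u) (dp_bi_27 j u) (Nat.ble (nat_lit 34) j)
noncomputable def dp_bi_29 (j u : ℕ) : Bool :=
  Bool.rec (motive := fun _ => Bool) (lF [T_e, T_d, T_e, T_di, T_ei, T_b, T_di, T_b, T_ei, T_ei, T_bi, T_d] M (Nat.sub (T_bi u) (Nat.mod (T_bi u) M)) (Nat.mod (T_bi u) M) u) (lS MG [T_di, T_ei, T_d, T_ei, T_di, T_e, T_d, T_b, T_d, T_ei, T_di] M (Nat.sub (T_bi u) (Nat.mod (T_bi u) M)) (nat_lit 40) (Nat.mod (T_bi u) M) u) (Nat.ble (nat_lit 40) j)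
noncomputable def dp_bi_30 (j u : ℕ) : Bool :=
  Bool.rec (motive := fun _ => Bool) (lS MG [T_d, T_bi, T_bi, T_bi, T_di, T_bi] M (Nat.sub (T_bi u) (Nat.mod (T_bi u) M)) (nat_lit 40) (Nat.mod (T_bi u) M) u) (lF [T_e, T_b, T_e, T_bi, T_ei, T_b, T_e, T_bi, T_di, T_b, T_ei] M (Nat.sub (T_bi u) (Nat.mod (T_bi u) M)) (Nat.mod (T_bi u) M) u) (Nat.ble (nat_lit 42) j)
noncomputable def dp_bi_31 (j u : ℕ) : Bool :=
  Bool.rec (motive := fun _ => Bool) (dp_bi_29 j u) (dp_bi_30 j u) (Nat.ble (nat_lit 41) j)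
noncomputable def dp_bi_32 (j u : ℕ) : Bool :=
  Bool.rec (motive := fun _ => Bool) (lF [T_bi, T_di, T_bi, T_bi, T_d, T_bi] M (Nat.sub (T_bi u) (Nat.mod (T_bi u) M)) (Nat.mod (T_bi u) M) u) (lF [T_e, T_e, T_b, T_e, T_di, T_bi, T_d, T_e, T_di, T_b, T_d, T_ei] M (Nat.sub (T_bi u) (Nat.mod (T_bi u) M)) (Nat.mod (T_bi u) M) u) (Nat.ble (nat_lit 44) j)
noncomputable def dp_bi_33 (j u : ℕ) : Bool :=
  Bool.rec (motive := fun _ => Bool) (lS MG [T_di, T_b, T_d, T_bi, T_bi, T_bi] M (Nat.sub (T_bi u) (Nat.mod (T_bi u) M)) (nat_lit 40) (Nat.mod (T_bi u) M) u) (lS MG [T_di, T_b, T_ei, T_bi, T_e, T_b, T_e, T_bi, T_ei, T_b, T_e] M (Nat.sub (T_bi u) (Nat.mod (T_bi u) M)) (nat_lit 40) (Nat.mod (T_bi u) M) u) (Nat.ble (nat_lit 46) j)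
noncomputable def dp_bi_34 (j u : ℕ) : Bool :=
  Bool.rec (motive := fun _ => Bool) (dp_bi_32 j u) (dp_bi_33 j u) (Nat.ble (nat_lit 45) j)
noncomputable def dp_bi_35 (j u : ℕ) : Bool :=
  Bool.rec (motive := fun _ => Bool) (dp_bi_31 j u) (dp_bi_34 j u) (Nat.ble (nat_lit 43) j)
noncomputable def dp_bi_36 (j u : ℕ) : Bool :=
  Bool.rec (motive := fun _ => Bool) (lF [T_bi, T_ei, T_di, T_di, T_e, T_b, T_b, T_ei, T_b, T_d, T_bi, T_e] M (Nat.sub (T_bi u) (Nat.mod (T_bi u) M)) (Nat.mod (T_bi u) M) u) (lF [T_bi, T_ei, T_d, T_d, T_e, T_b, T_b, T_ei, T_b, T_di, T_bi, T_e] M (Nat.sub (T_bi u) (Nat.mod (T_bi u) M)) (Nat.mod (T_bi u) M) u) (Nat.ble (nat_lit 48) j)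
noncomputable def dp_bi_37 (j u : ℕ) : Bool :=
  Bool.rec (motive := fun _ => Bool) (lF [T_di, T_bi, T_bi, T_d, T_bi, T_bi] M (Nat.sub (T_bi u) (Nat.mod (T_bi u) M)) (Nat.mod (T_bi u) M) u) (lF [T_ei, T_di, T_e, T_b, T_b, T_ei, T_b, T_di, T_di, T_bi, T_e, T_bi] M (Nat.sub (T_bi u) (Nat.mod (T_bi u) M)) (Nat.mod (T_bi u) M) u) (Nat.ble (nat_lit 50) j)
noncomputable def dp_bi_38 (j u : ℕ) : Bool :=
  Bool.rec (motive := fun _ => Bool) (dp_bi_36 j u) (dp_bi_37 j u) (Nat.ble (nat_lit 49) j)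
noncomputable def dp_bi_39 (j u : ℕ) : Bool :=
  Bool.rec (motive := fun _ => Bool) (lS MG [T_d, T_b, T_b, T_b, T_b, T_di] M (Nat.sub (T_bi u) (Nat.mod (T_bi u) M)) (nat_lit 40) (Nat.mod (T_bi u) M) u) (lF [T_ei, T_b, T_e, T_bi, T_d, T_b, T_ei, T_bi, T_e, T_b, T_ei] M (Nat.sub (T_bi u) (Nat.mod (T_bi u) M)) (Nat.mod (T_bi u) M) u) (Nat.ble (nat_lit 52) j)
noncomputable def dp_bi_40 (j u : ℕ) : Bool :=
  Bool.rec (motive := fun _ => Bool) (lF [T_bi, T_d, T_bi, T_bi, T_bi, T_di] M (Nat.sub (T_bi u) (Nat.mod (T_bi u) M)) (Nat.mod (T_bi u) M) u) (lS MG [T_di, T_di, T_bi, T_bi, T_d, T_d] M (Nat.sub (T_bi u) (Nat.mod (T_bi u) M)) (nat_lit 40) (Nat.mod (T_bi u) M) u) (Nat.ble (nat_lit 54) j)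
noncomputable def dp_bi_41 (j u : ℕ) : Bool :=
  Bool.rec (motive := fun _ => Bool) (dp_bi_39 j u) (dp_bi_40 j u) (Nat.ble (nat_lit 53) j)
noncomputable def dp_bi_42 (j u : ℕ) : Bool :=
  Bool.rec (motive := fun _ => Bool) (dp_bi_38 j u) (dp_bi_41 j u) (Nat.ble (nat_lit 51) j)
noncomputable def dp_bi_43 (j u : ℕ) : Bool :=
  Bool.rec (motive := fun _ => Bool) (dp_bi_35 j u) (dp_bi_42 j u) (Nat.ble (nat_lit 47) j)
noncomputable def dp_bi_44 (j u : ℕ) : Bool :=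
  Bool.rec (motive := fun _ => Bool) (dp_bi_28 j u) (dp_bi_43 j u) (Nat.ble (nat_lit 39) j)
noncomputable def dp_bi_45 (j u : ℕ) : Bool :=
  Bool.rec (motive := fun _ => Bool) (dp_bi_20 j u) (dp_bi_44 j u) (Nat.ble (nat_lit 30) j)
noncomputable def dp_bi_46 (j u : ℕ) : Bool :=
  Bool.rec (motive := fun _ => Bool) (dp_bi_11 j u) (dp_bi_45 j u) (Nat.ble (nat_lit 20) j)
noncomputable def dp_bi_47 (j u : ℕ) : Bool :=
  Bool.rec (motive := fun _ => Bool) (dp_bi_6 j u) (dp_bi_46 j u) (Nat.ble (nat_lit 14) j)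
noncomputable def dp_bi_48 (j u : ℕ) : Bool :=
  Bool.rec (motive := fun _ => Bool) (Bool.rec (motive := fun _ => Bool) (lF3 T_zi T_b T_z M (Nat.sub (T_bi u) (Nat.mod (T_bi u) M)) (Nat.mod (T_bi u) M) u) (dp_bi_0 j u) (Nat.ble (nat_lit 5) j)) (dp_bi_47 j u) (Nat.ble (nat_lit 7) j)
noncomputable def disp_bi (j u : ℕ) : Bool :=
  Bool.rec (motive := fun _ => Bool) (Bool.rec (motive := fun _ => Bool) (lDef P (nat_lit 1) (Nat.mod (T_bi u) M) u) (lF1 T_b M (Nat.sub (T_bi u) (Nat.mod (T_bi u) M)) (Nat.mod (T_bi u) M) u) (Nat.ble (nat_lit 1) j)) (Bool.rec (motive := fun _ => Bool) (Bool.rec (motive := fun _ => Bool) (lDef P (nat_lit 0) u (Nat.mod (T_bi u) M)) (lS MG [T_b] M (Nat.sub (T_bi u) (Nat.mod (T_bi u) M)) (nat_lit 40) (Nat.mod (T_bi u) M) u) (Nat.ble (nat_lit 3) j)) (dp_bi_48 j u) (Nat.ble (nat_lit 4) j)) (Nat.ble (nat_lit 2) j)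
noncomputable def chk_bi (j u : ℕ) : Bool :=
  Bool.rec (motive := fun _ => Bool) (disp_bi j u) (Nat.ble (Nat.succ (MG u)) A) (Nat.ble A (T_bi u))
noncomputable def dp_d_0 (j u : ℕ) : Bool :=
  Bool.rec (motive := fun _ => Bool) (lF3 T_z T_di T_zi M (Nat.sub (T_d u) (Nat.mod (T_d u) M)) (Nat.mod (T_d u) M) u) (lF [T_d, T_d, T_d, T_d] M (Nat.sub (T_d u) (Nat.mod (T_d u) M)) (Nat.mod (T_d u) M) u) (Nat.ble (nat_lit 6) j)
noncomputable def dp_d_1 (j u : ℕ) : Bool :=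
  Bool.rec (motive := fun _ => Bool) (lF [T_zi, T_b, T_e, T_d, T_b, T_e] M (Nat.sub (T_d u) (Nat.mod (T_d u) M)) (Nat.mod (T_d u) M) u) (lS MG [T_zi, T_b, T_e, T_d, T_b, T_e] M (Nat.sub (T_d u) (Nat.mod (T_d u) M)) (nat_lit 40) (Nat.mod (T_d u) M) u) (Nat.ble (nat_lit 10) j)
noncomputable def dp_d_2 (j u : ℕ) : Bool :=
  Bool.rec (motive := fun _ => Bool) (lF [T_b, T_di, T_bi, T_bi, T_bi] M (Nat.sub (T_d u) (Nat.mod (T_d u) M)) (Nat.mod (T_d u) M) u) (dp_d_1 j u) (Nat.ble (nat_lit 9) j)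
noncomputable def dp_d_3 (j u : ℕ) : Bool :=
  Bool.rec (motive := fun _ => Bool) (lF [T_bi, T_di, T_b, T_b, T_b] M (Nat.sub (T_d u) (Nat.mod (T_d u) M)) (Nat.mod (T_d u) M) u) (dp_d_2 j u) (Nat.ble (nat_lit 8) j)
noncomputable def dp_d_4 (j u : ℕ) : Bool :=
  Bool.rec (motive := fun _ => Bool) (lS MG [T_d, T_d, T_d, T_d] M (Nat.sub (T_d u) (Nat.mod (T_d u) M)) (nat_lit 40) (Nat.mod (T_d u) M) u) (lF [T_b, T_e, T_d, T_zi, T_b, T_e] M (Nat.sub (T_d u) (Nat.mod (T_d u) M)) (Nat.mod (T_d u) M) u) (Nat.ble (nat_lit 12) j)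
noncomputable def dp_d_5 (j u : ℕ) : Bool :=
  Bool.rec (motive := fun _ => Bool) (lS MG [T_b, T_di, T_bi, T_bi, T_bi] M (Nat.sub (T_d u) (Nat.mod (T_d u) M)) (nat_lit 40) (Nat.mod (T_d u) M) u) (lF [T_b, T_b, T_b, T_b, T_di, T_bi] M (Nat.sub (T_d u) (Nat.mod (T_d u) M)) (Nat.mod (T_d u) M) u) (Nat.ble (nat_lit 15) j)
noncomputable def dp_d_6 (j u : ℕ) : Bool :=
  Bool.rec (motive := fun _ => Bool) (lS MG [T_bi, T_di, T_b, T_b, T_b] M (Nat.sub (T_d u) (Nat.mod (T_d u) M)) (nat_lit 40) (Nat.mod (T_d u) M) u) (dp_d_5 j u) (Nat.ble (nat_lit 14) j)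
noncomputable def dp_d_7 (j u : ℕ) : Bool :=
  Bool.rec (motive := fun _ => Bool) (dp_d_4 j u) (dp_d_6 j u) (Nat.ble (nat_lit 13) j)
noncomputable def dp_d_8 (j u : ℕ) : Bool :=
  Bool.rec (motive := fun _ => Bool) (lF [T_b, T_di, T_di, T_b, T_b, T_d] M (Nat.sub (T_d u) (Nat.mod (T_d u) M)) (Nat.mod (T_d u) M) u) (lS MG [T_b, T_e, T_d, T_zi, T_b, T_e] M (Nat.sub (T_d u) (Nat.mod (T_d u) M)) (nat_lit 40) (Nat.mod (T_d u) M) u) (Nat.ble (nat_lit 17) j)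
noncomputable def dp_d_9 (j u : ℕ) : Bool :=
  Bool.rec (motive := fun _ => Bool) (lS MG [T_z, T_di, T_zi] M (Nat.sub (T_d u) (Nat.mod (T_d u) M)) (nat_lit 40) (Nat.mod (T_d u) M) u) (lF [T_bi, T_bi, T_bi, T_di, T_bi, T_bi] M (Nat.sub (T_d u) (Nat.mod (T_d u) M)) (Nat.mod (T_d u) M) u) (Nat.ble (nat_lit 19) j)
noncomputable def dp_d_10 (j u : ℕ) : Bool :=
  Bool.rec (motive := fun _ => Bool) (lF [T_bi, T_bi, T_bi, T_bi, T_di, T_b] M (Nat.sub (T_d u) (Nat.mod (T_d u) M)) (Nat.mod (T_d u) M) u) (lS MG [T_zi, T_di, T_z] M (Nat.sub (T_d u) (Nat.mod (T_d u) M)) (nat_lit 40) (Nat.mod (T_d u) M) u) (Nat.ble (nat_lit 21) j)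
noncomputable def dp_d_11 (j u : ℕ) : Bool :=
  Bool.rec (motive := fun _ => Bool) (dp_d_9 j u) (dp_d_10 j u) (Nat.ble (nat_lit 20) j)
noncomputable def dp_d_12 (j u : ℕ) : Bool :=
  Bool.rec (motive := fun _ => Bool) (dp_d_8 j u) (dp_d_11 j u) (Nat.ble (nat_lit 18) j)
noncomputable def dp_d_13 (j u : ℕ) : Bool :=
  Bool.rec (motive := fun _ => Bool) (lS MG [T_bi, T_bi, T_bi, T_bi, T_di, T_b] M (Nat.sub (T_d u) (Nat.mod (T_d u) M)) (nat_lit 40) (Nat.mod (T_d u) M) u) (lF [T_d, T_b, T_di, T_di, T_b, T_b] M (Nat.sub (T_d u) (Nat.mod (T_d u) M)) (Nat.mod (T_d u) M) u) (Nat.ble (nat_lit 23) j)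
noncomputable def dp_d_14 (j u : ℕ) : Bool :=
  Bool.rec (motive := fun _ => Bool) (lS MG [T_bi, T_di, T_di, T_bi, T_bi, T_d] M (Nat.sub (T_d u) (Nat.mod (T_d u) M)) (nat_lit 40) (Nat.mod (T_d u) M) u) (lS MG [T_d, T_bi, T_di, T_di, T_bi, T_bi] M (Nat.sub (T_d u) (Nat.mod (T_d u) M)) (nat_lit 40) (Nat.mod (T_d u) M) u) (Nat.ble (nat_lit 25) j)
noncomputable def dp_d_15 (j u : ℕ) : Bool :=
  Bool.rec (motive := fun _ => Bool) (lS MG [T_d, T_b, T_di, T_di, T_b, T_b] M (Nat.sub (T_d u) (Nat.mod (T_d u) M)) (nat_lit 40) (Nat.mod (T_d u) M) u) (lS MG [T_ei, T_di, T_bi, T_di, T_ei, T_d, T_ei, T_di, T_e, T_d, T_b] M (Nat.sub (T_d u) (Nat.mod (T_d u) M)) (nat_lit 40) (Nat.mod (T_d u) M) u) (Nat.ble (nat_lit 27) j)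
noncomputable def dp_d_16 (j u : ℕ) : Bool :=
  Bool.rec (motive := fun _ => Bool) (dp_d_14 j u) (dp_d_15 j u) (Nat.ble (nat_lit 26) j)
noncomputable def dp_d_17 (j u : ℕ) : Bool :=
  Bool.rec (motive := fun _ => Bool) (dp_d_13 j u) (dp_d_16 j u) (Nat.ble (nat_lit 24) j)
noncomputable def dp_d_18 (j u : ℕ) : Bool :=
  Bool.rec (motive := fun _ => Bool) (lF [T_b, T_b, T_b, T_di, T_b, T_b] M (Nat.sub (T_d u) (Nat.mod (T_d u) M)) (Nat.mod (T_d u) M) u) (lS MG [T_bi, T_di, T_b, T_di, T_bi, T_bi, T_d, T_bi] M (Nat.sub (T_d u) (Nat.mod (T_d u) M)) (nat_lit 40) (Nat.mod (T_d u) M) u) (Nat.ble (nat_lit 30) j)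
noncomputable def dp_d_19 (j u : ℕ) : Bool :=
  Bool.rec (motive := fun _ => Bool) (lF [T_d, T_e, T_b, T_b, T_ei, T_b, T_di, T_bi, T_e, T_bi, T_bi, T_ei] M (Nat.sub (T_d u) (Nat.mod (T_d u) M)) (Nat.mod (T_d u) M) u) (dp_d_18 j u) (Nat.ble (nat_lit 29) j)
noncomputable def dp_d_20 (j u : ℕ) : Bool :=
  Bool.rec (motive := fun _ => Bool) (lF [T_ei, T_di, T_e, T_d, T_b, T_d, T_ei, T_di, T_bi, T_di, T_ei] M (Nat.sub (T_d u) (Nat.mod (T_d u) M)) (Nat.mod (T_d u) M) u) (lS MG [T_b, T_di, T_di, T_b, T_b, T_d] M (Nat.sub (T_d u) (Nat.mod (T_d u) M)) (nat_lit 40) (Nat.mod (T_d u) M) u) (Nat.ble (nat_lit 32) j)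
noncomputable def dp_d_21 (j u : ℕ) : Bool :=
  Bool.rec (motive := fun _ => Bool) (lS MG [T_e, T_di, T_bi, T_di, T_ei, T_d, T_e, T_di, T_e, T_d, T_b] M (Nat.sub (T_d u) (Nat.mod (T_d u) M)) (nat_lit 40) (Nat.mod (T_d u) M) u) (lS MG [T_d, T_bi, T_e, T_bi, T_bi, T_ei, T_d, T_e, T_b, T_b, T_ei, T_b] M (Nat.sub (T_d u) (Nat.mod (T_d u) M)) (nat_lit 40) (Nat.mod (T_d u) M) u) (Nat.ble (nat_lit 34) j)
noncomputable def dp_d_22 (j u : ℕ) : Bool :=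
  Bool.rec (motive := fun _ => Bool) (dp_d_20 j u) (dp_d_21 j u) (Nat.ble (nat_lit 33) j)
noncomputable def dp_d_23 (j u : ℕ) : Bool :=
  Bool.rec (motive := fun _ => Bool) (dp_d_19 j u) (dp_d_22 j u) (Nat.ble (nat_lit 31) j)
noncomputable def dp_d_24 (j u : ℕ) : Bool :=
  Bool.rec (motive := fun _ => Bool) (lF [T_d, T_bi, T_e, T_bi, T_bi, T_ei, T_d, T_e, T_b, T_b, T_ei, T_b] M (Nat.sub (T_d u) (Nat.mod (T_d u) M)) (Nat.mod (T_d u) M) u) (lF [T_d, T_ei, T_bi, T_ei, T_d, T_b, T_ei, T_bi, T_di, T_e, T_b, T_e] M (Nat.sub (T_d u) (Nat.mod (T_d u) M)) (Nat.mod (T_d u) M) u) (Nat.ble (nat_lit 37) j)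
noncomputable def dp_d_25 (j u : ℕ) : Bool :=
  Bool.rec (motive := fun _ => Bool) (lF [T_d, T_bi, T_di, T_di, T_bi, T_bi] M (Nat.sub (T_d u) (Nat.mod (T_d u) M)) (Nat.mod (T_d u) M) u) (dp_d_24 j u) (Nat.ble (nat_lit 36) j)
noncomputable def dp_d_26 (j u : ℕ) : Bool :=
  Bool.rec (motive := fun _ => Bool) (lF [T_e, T_di, T_e, T_d, T_b, T_d, T_e, T_di, T_bi, T_di, T_ei] M (Nat.sub (T_d u) (Nat.mod (T_d u) M)) (Nat.mod (T_d u) M) u) (lS MG [T_bi, T_bi, T_bi, T_di, T_bi, T_bi] M (Nat.sub (T_d u) (Nat.mod (T_d u) M)) (nat_lit 40) (Nat.mod (T_d u) M) u) (Nat.ble (nat_lit 39) j)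
noncomputable def dp_d_27 (j u : ℕ) : Bool :=
  Bool.rec (motive := fun _ => Bool) (lS MG [T_e, T_di, T_e, T_d, T_b, T_d, T_e, T_di, T_bi, T_di, T_ei] M (Nat.sub (T_d u) (Nat.mod (T_d u) M)) (nat_lit 40) (Nat.mod (T_d u) M) u) (lF [T_bi, T_di, T_di, T_bi, T_bi, T_d] M (Nat.sub (T_d u) (Nat.mod (T_d u) M)) (Nat.mod (T_d u) M) u) (Nat.ble (nat_lit 41) j)
noncomputable def dp_d_28 (j u : ℕ) : Bool :=
  Bool.rec (motive := fun _ => Bool) (dp_d_26 j u) (dp_d_27 j u) (Nat.ble (nat_lit 40) j)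
noncomputable def dp_d_29 (j u : ℕ) : Bool :=
  Bool.rec (motive := fun _ => Bool) (dp_d_25 j u) (dp_d_28 j u) (Nat.ble (nat_lit 38) j)
noncomputable def dp_d_30 (j u : ℕ) : Bool :=
  Bool.rec (motive := fun _ => Bool) (dp_d_23 j u) (dp_d_29 j u) (Nat.ble (nat_lit 35) j)
noncomputable def dp_d_31 (j u : ℕ) : Bool :=
  Bool.rec (motive := fun _ => Bool) (dp_d_17 j u) (dp_d_30 j u) (Nat.ble (nat_lit 28) j)
noncomputable def dp_d_32 (j u : ℕ) : Bool :=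
  Bool.rec (motive := fun _ => Bool) (dp_d_12 j u) (dp_d_31 j u) (Nat.ble (nat_lit 22) j)
noncomputable def dp_d_33 (j u : ℕ) : Bool :=
  Bool.rec (motive := fun _ => Bool) (dp_d_7 j u) (dp_d_32 j u) (Nat.ble (nat_lit 16) j)
noncomputable def dp_d_34 (j u : ℕ) : Bool :=
  Bool.rec (motive := fun _ => Bool) (dp_d_3 j u) (dp_d_33 j u) (Nat.ble (nat_lit 11) j)
noncomputable def dp_d_35 (j u : ℕ) : Bool :=
  Bool.rec (motive := fun _ => Bool) (Bool.rec (motive := fun _ => Bool) (lF3 T_zi T_di T_z M (Nat.sub (T_d u) (Nat.mod (T_d u) M)) (Nat.mod (T_d u) M) u) (dp_d_0 j u) (Nat.ble (nat_lit 5) j)) (dp_d_34 j u) (Nat.ble (nat_lit 7) j)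
noncomputable def disp_d (j u : ℕ) : Bool :=
  Bool.rec (motive := fun _ => Bool) (Bool.rec (motive := fun _ => Bool) (lDef P (nat_lit 2) (Nat.mod (T_d u) M) u) (lDef P (nat_lit 3) u (Nat.mod (T_d u) M)) (Nat.ble (nat_lit 1) j)) (Bool.rec (motive := fun _ => Bool) (Bool.rec (motive := fun _ => Bool) (lF1 T_di M (Nat.sub (T_d u) (Nat.mod (T_d u) M)) (Nat.mod (T_d u) M) u) (lS MG [T_di] M (Nat.sub (T_d u) (Nat.mod (T_d u) M)) (nat_lit 40) (Nat.mod (T_d u) M) u) (Nat.ble (nat_lit 3) j)) (dp_d_35 j u) (Nat.ble (nat_lit 4) j)) (Nat.ble (nat_lit 2) j)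
noncomputable def chk_d (j u : ℕ) : Bool :=
  Bool.rec (motive := fun _ => Bool) (disp_d j u) (Nat.ble (Nat.succ (MG u)) A) (Nat.ble A (T_d u))
noncomputable def dp_di_0 (j u : ℕ) : Bool :=
  Bool.rec (motive := fun _ => Bool) (lF [T_di, T_di, T_di, T_di] M (Nat.sub (T_di u) (Nat.mod (T_di u) M)) (Nat.mod (T_di u) M) u) (lF [T_bi, T_bi, T_bi, T_d, T_b] M (Nat.sub (T_di u) (Nat.mod (T_di u) M)) (Nat.mod (T_di u) M) u) (Nat.ble (nat_lit 7) j)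
noncomputable def dp_di_1 (j u : ℕ) : Bool :=
  Bool.rec (motive := fun _ => Bool) (lF [T_b, T_b, T_b, T_d, T_bi] M (Nat.sub (T_di u) (Nat.mod (T_di u) M)) (Nat.mod (T_di u) M) u) (lS MG [T_b, T_b, T_b, T_d, T_bi] M (Nat.sub (T_di u) (Nat.mod (T_di u) M)) (nat_lit 40) (Nat.mod (T_di u) M) u) (Nat.ble (nat_lit 10) j)
noncomputable def dp_di_2 (j u : ℕ) : Bool :=
  Bool.rec (motive := fun _ => Bool) (lS MG [T_di, T_di, T_di, T_di] M (Nat.sub (T_di u) (Nat.mod (T_di u) M)) (nat_lit 40) (Nat.mod (T_di u) M) u) (dp_di_1 j u) (Nat.ble (nat_lit 9) j)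
noncomputable def dp_di_3 (j u : ℕ) : Bool :=
  Bool.rec (motive := fun _ => Bool) (dp_di_0 j u) (dp_di_2 j u) (Nat.ble (nat_lit 8) j)
noncomputable def dp_di_4 (j u : ℕ) : Bool :=
  Bool.rec (motive := fun _ => Bool) (lS MG [T_bi, T_bi, T_bi, T_d, T_b] M (Nat.sub (T_di u) (Nat.mod (T_di u) M)) (nat_lit 40) (Nat.mod (T_di u) M) u) (lF [T_bi, T_d, T_b, T_b, T_b, T_b] M (Nat.sub (T_di u) (Nat.mod (T_di u) M)) (Nat.mod (T_di u) M) u) (Nat.ble (nat_lit 12) j)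
noncomputable def dp_di_5 (j u : ℕ) : Bool :=
  Bool.rec (motive := fun _ => Bool) (lS MG [T_ei, T_bi, T_z, T_di, T_ei, T_bi] M (Nat.sub (T_di u) (Nat.mod (T_di u) M)) (nat_lit 40) (Nat.mod (T_di u) M) u) (lF [T_ei, T_bi, T_z, T_di, T_ei, T_bi] M (Nat.sub (T_di u) (Nat.mod (T_di u) M)) (Nat.mod (T_di u) M) u) (Nat.ble (nat_lit 14) j)
noncomputable def dp_di_6 (j u : ℕ) : Bool :=
  Bool.rec (motive := fun _ => Bool) (dp_di_4 j u) (dp_di_5 j u) (Nat.ble (nat_lit 13) j)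
noncomputable def dp_di_7 (j u : ℕ) : Bool :=
  Bool.rec (motive := fun _ => Bool) (lS MG [T_bi, T_bi, T_d, T_d, T_bi, T_di] M (Nat.sub (T_di u) (Nat.mod (T_di u) M)) (nat_lit 40) (Nat.mod (T_di u) M) u) (lF [T_ei, T_bi, T_di, T_ei, T_bi, T_z] M (Nat.sub (T_di u) (Nat.mod (T_di u) M)) (Nat.mod (T_di u) M) u) (Nat.ble (nat_lit 17) j)
noncomputable def dp_di_8 (j u : ℕ) : Bool :=
  Bool.rec (motive := fun _ => Bool) (lS MG [T_z, T_d, T_zi] M (Nat.sub (T_di u) (Nat.mod (T_di u) M)) (nat_lit 40) (Nat.mod (T_di u) M) u) (dp_di_7 j u) (Nat.ble (nat_lit 16) j)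
noncomputable def dp_di_9 (j u : ℕ) : Bool :=
  Bool.rec (motive := fun _ => Bool) (lS MG [T_e, T_d, T_b, T_d, T_ei, T_di, T_bi, T_di, T_ei, T_d, T_ei] M (Nat.sub (T_di u) (Nat.mod (T_di u) M)) (nat_lit 40) (Nat.mod (T_di u) M) u) (lS MG [T_e, T_d, T_b, T_d, T_e, T_di, T_bi, T_di, T_ei, T_d, T_e] M (Nat.sub (T_di u) (Nat.mod (T_di u) M)) (nat_lit 40) (Nat.mod (T_di u) M) u) (Nat.ble (nat_lit 19) j)
noncomputable def dp_di_10 (j u : ℕ) : Bool :=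
  Bool.rec (motive := fun _ => Bool) (lS MG [T_bi, T_d, T_b, T_b, T_b, T_b] M (Nat.sub (T_di u) (Nat.mod (T_di u) M)) (nat_lit 40) (Nat.mod (T_di u) M) u) (lS MG [T_zi, T_d, T_z] M (Nat.sub (T_di u) (Nat.mod (T_di u) M)) (nat_lit 40) (Nat.mod (T_di u) M) u) (Nat.ble (nat_lit 21) j)
noncomputable def dp_di_11 (j u : ℕ) : Bool :=
  Bool.rec (motive := fun _ => Bool) (dp_di_9 j u) (dp_di_10 j u) (Nat.ble (nat_lit 20) j)
noncomputable def dp_di_12 (j u : ℕ) : Bool :=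
  Bool.rec (motive := fun _ => Bool) (dp_di_8 j u) (dp_di_11 j u) (Nat.ble (nat_lit 18) j)
noncomputable def dp_di_13 (j u : ℕ) : Bool :=
  Bool.rec (motive := fun _ => Bool) (lF [T_ei, T_d, T_e, T_di, T_e, T_d, T_b, T_d, T_e, T_di, T_bi] M (Nat.sub (T_di u) (Nat.mod (T_di u) M)) (Nat.mod (T_di u) M) u) (lF [T_ei, T_d, T_ei, T_di, T_e, T_d, T_b, T_d, T_ei, T_di, T_bi] M (Nat.sub (T_di u) (Nat.mod (T_di u) M)) (Nat.mod (T_di u) M) u) (Nat.ble (nat_lit 23) j)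
noncomputable def dp_di_14 (j u : ℕ) : Bool :=
  Bool.rec (motive := fun _ => Bool) (lF [T_di, T_ei, T_bi, T_ei, T_d, T_b, T_e, T_bi, T_di, T_e, T_b, T_e] M (Nat.sub (T_di u) (Nat.mod (T_di u) M)) (Nat.mod (T_di u) M) u) (lF [T_e, T_d, T_b, T_d, T_e, T_di, T_bi, T_di, T_ei, T_d, T_e] M (Nat.sub (T_di u) (Nat.mod (T_di u) M)) (Nat.mod (T_di u) M) u) (Nat.ble (nat_lit 26) j)
noncomputable def dp_di_15 (j u : ℕ) : Bool :=
  Bool.rec (motive := fun _ => Bool) (lF [T_di, T_e, T_b, T_b, T_ei, T_b, T_d, T_bi, T_e, T_bi, T_bi, T_ei] M (Nat.sub (T_di u) (Nat.mod (T_di u) M)) (Nat.mod (T_di u) M) u) (dp_di_14 j u) (Nat.ble (nat_lit 25) j)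
noncomputable def dp_di_16 (j u : ℕ) : Bool :=
  Bool.rec (motive := fun _ => Bool) (dp_di_13 j u) (dp_di_15 j u) (Nat.ble (nat_lit 24) j)
noncomputable def dp_di_17 (j u : ℕ) : Bool :=
  Bool.rec (motive := fun _ => Bool) (lF [T_bi, T_bi, T_d, T_d, T_bi, T_di] M (Nat.sub (T_di u) (Nat.mod (T_di u) M)) (Nat.mod (T_di u) M) u) (lS MG [T_ei, T_d, T_e, T_di, T_e, T_d, T_b, T_d, T_e, T_di, T_bi] M (Nat.sub (T_di u) (Nat.mod (T_di u) M)) (nat_lit 40) (Nat.mod (T_di u) M) u) (Nat.ble (nat_lit 29) j)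
noncomputable def dp_di_18 (j u : ℕ) : Bool :=
  Bool.rec (motive := fun _ => Bool) (lF [T_e, T_d, T_b, T_d, T_ei, T_di, T_bi, T_di, T_ei, T_d, T_ei] M (Nat.sub (T_di u) (Nat.mod (T_di u) M)) (Nat.mod (T_di u) M) u) (dp_di_17 j u) (Nat.ble (nat_lit 28) j)
noncomputable def dp_di_19 (j u : ℕ) : Bool :=
  Bool.rec (motive := fun _ => Bool) (lF [T_b, T_d, T_ei, T_bi, T_e, T_e, T_b, T_e, T_di, T_bi, T_d, T_e] M (Nat.sub (T_di u) (Nat.mod (T_di u) M)) (Nat.mod (T_di u) M) u) (lF [T_di, T_bi, T_bi, T_d, T_d, T_bi] M (Nat.sub (T_di u) (Nat.mod (T_di u) M)) (Nat.mod (T_di u) M) u) (Nat.ble (nat_lit 32) j)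
noncomputable def dp_di_20 (j u : ℕ) : Bool :=
  Bool.rec (motive := fun _ => Bool) (lS MG [T_bi, T_di, T_ei, T_d, T_ei, T_di, T_e, T_d, T_b, T_d, T_ei] M (Nat.sub (T_di u) (Nat.mod (T_di u) M)) (nat_lit 40) (Nat.mod (T_di u) M) u) (dp_di_19 j u) (Nat.ble (nat_lit 31) j)
noncomputable def dp_di_21 (j u : ℕ) : Bool :=
  Bool.rec (motive := fun _ => Bool) (dp_di_18 j u) (dp_di_20 j u) (Nat.ble (nat_lit 30) j)
noncomputable def dp_di_22 (j u : ℕ) : Bool :=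
  Bool.rec (motive := fun _ => Bool) (dp_di_16 j u) (dp_di_21 j u) (Nat.ble (nat_lit 27) j)
noncomputable def dp_di_23 (j u : ℕ) : Bool :=
  Bool.rec (motive := fun _ => Bool) (lS MG [T_bi, T_bi, T_d, T_bi, T_bi, T_bi] M (Nat.sub (T_di u) (Nat.mod (T_di u) M)) (nat_lit 40) (Nat.mod (T_di u) M) u) (lF [T_b, T_b, T_d, T_d, T_b, T_di] M (Nat.sub (T_di u) (Nat.mod (T_di u) M)) (Nat.mod (T_di u) M) u) (Nat.ble (nat_lit 35) j)
noncomputable def dp_di_24 (j u : ℕ) : Bool :=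
  Bool.rec (motive := fun _ => Bool) (lS MG [T_ei, T_bi, T_di, T_ei, T_bi, T_z] M (Nat.sub (T_di u) (Nat.mod (T_di u) M)) (nat_lit 40) (Nat.mod (T_di u) M) u) (dp_di_23 j u) (Nat.ble (nat_lit 34) j)
noncomputable def dp_di_25 (j u : ℕ) : Bool :=
  Bool.rec (motive := fun _ => Bool) (lF [T_bi, T_di, T_ei, T_d, T_e, T_di, T_e, T_d, T_b, T_d, T_e] M (Nat.sub (T_di u) (Nat.mod (T_di u) M)) (Nat.mod (T_di u) M) u) (lF [T_bi, T_e, T_bi, T_bi, T_ei, T_d, T_d, T_e, T_b, T_b, T_ei, T_b] M (Nat.sub (T_di u) (Nat.mod (T_di u) M)) (Nat.mod (T_di u) M) u) (Nat.ble (nat_lit 38) j)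
noncomputable def dp_di_26 (j u : ℕ) : Bool :=
  Bool.rec (motive := fun _ => Bool) (lF [T_bi, T_d, T_ei, T_di, T_b, T_d, T_ei, T_bi, T_ei, T_ei, T_b, T_e] M (Nat.sub (T_di u) (Nat.mod (T_di u) M)) (Nat.mod (T_di u) M) u) (dp_di_25 j u) (Nat.ble (nat_lit 37) j)
noncomputable def dp_di_27 (j u : ℕ) : Bool :=
  Bool.rec (motive := fun _ => Bool) (dp_di_24 j u) (dp_di_26 j u) (Nat.ble (nat_lit 36) j)
noncomputable def dp_di_28 (j u : ℕ) : Bool :=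
  Bool.rec (motive := fun _ => Bool) (lS MG [T_b, T_b, T_d, T_b, T_b, T_b] M (Nat.sub (T_di u) (Nat.mod (T_di u) M)) (nat_lit 40) (Nat.mod (T_di u) M) u) (lS MG [T_di, T_bi, T_bi, T_d, T_d, T_bi] M (Nat.sub (T_di u) (Nat.mod (T_di u) M)) (nat_lit 40) (Nat.mod (T_di u) M) u) (Nat.ble (nat_lit 41) j)
noncomputable def dp_di_29 (j u : ℕ) : Bool :=
  Bool.rec (motive := fun _ => Bool) (lS MG [T_di, T_b, T_b, T_d, T_d, T_b] M (Nat.sub (T_di u) (Nat.mod (T_di u) M)) (nat_lit 40) (Nat.mod (T_di u) M) u) (dp_di_28 j u) (Nat.ble (nat_lit 40) j)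
noncomputable def dp_di_30 (j u : ℕ) : Bool :=
  Bool.rec (motive := fun _ => Bool) (lF [T_di, T_b, T_b, T_d, T_d, T_b] M (Nat.sub (T_di u) (Nat.mod (T_di u) M)) (Nat.mod (T_di u) M) u) (lS MG [T_ei, T_d, T_ei, T_di, T_e, T_d, T_b, T_d, T_ei, T_di, T_bi] M (Nat.sub (T_di u) (Nat.mod (T_di u) M)) (nat_lit 40) (Nat.mod (T_di u) M) u) (Nat.ble (nat_lit 44) j)
noncomputable def dp_di_31 (j u : ℕ) : Bool :=
  Bool.rec (motive := fun _ => Bool) (lF [T_bi, T_d, T_e, T_di, T_b, T_d, T_ei, T_bi, T_e, T_e, T_b, T_e] M (Nat.sub (T_di u) (Nat.mod (T_di u) M)) (Nat.mod (T_di u) M) u) (dp_di_30 j u) (Nat.ble (nat_lit 43) j)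
noncomputable def dp_di_32 (j u : ℕ) : Bool :=
  Bool.rec (motive := fun _ => Bool) (dp_di_29 j u) (dp_di_31 j u) (Nat.ble (nat_lit 42) j)
noncomputable def dp_di_33 (j u : ℕ) : Bool :=
  Bool.rec (motive := fun _ => Bool) (dp_di_27 j u) (dp_di_32 j u) (Nat.ble (nat_lit 39) j)
noncomputable def dp_di_34 (j u : ℕ) : Bool :=
  Bool.rec (motive := fun _ => Bool) (dp_di_22 j u) (dp_di_33 j u) (Nat.ble (nat_lit 33) j)
noncomputable def dp_di_35 (j u : ℕ) : Bool :=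
  Bool.rec (motive := fun _ => Bool) (dp_di_12 j u) (dp_di_34 j u) (Nat.ble (nat_lit 22) j)
noncomputable def dp_di_36 (j u : ℕ) : Bool :=
  Bool.rec (motive := fun _ => Bool) (dp_di_6 j u) (dp_di_35 j u) (Nat.ble (nat_lit 15) j)
noncomputable def dp_di_37 (j u : ℕ) : Bool :=
  Bool.rec (motive := fun _ => Bool) (dp_di_3 j u) (dp_di_36 j u) (Nat.ble (nat_lit 11) j)
noncomputable def dp_di_38 (j u : ℕ) : Bool :=
  Bool.rec (motive := fun _ => Bool) (Bool.rec (motive := fun _ => Bool) (lF3 T_zi T_d T_z M (Nat.sub (T_di u) (Nat.mod (T_di u) M)) (Nat.mod (T_di u) M) u) (lF3 T_z T_d T_zi M (Nat.sub (T_di u) (Nat.mod (T_di u) M)) (Nat.mod (T_di u) M) u) (Nat.ble (nat_lit 5) j)) (dp_di_37 j u) (Nat.ble (nat_lit 6) j)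
noncomputable def disp_di (j u : ℕ) : Bool :=
  Bool.rec (motive := fun _ => Bool) (Bool.rec (motive := fun _ => Bool) (lF1 T_d M (Nat.sub (T_di u) (Nat.mod (T_di u) M)) (Nat.mod (T_di u) M) u) (lDef P (nat_lit 2) u (Nat.mod (T_di u) M)) (Nat.ble (nat_lit 1) j)) (Bool.rec (motive := fun _ => Bool) (Bool.rec (motive := fun _ => Bool) (lDef P (nat_lit 3) (Nat.mod (T_di u) M) u) (lS MG [T_d] M (Nat.sub (T_di u) (Nat.mod (T_di u) M)) (nat_lit 40) (Nat.mod (T_di u) M) u) (Nat.ble (nat_lit 3) j)) (dp_di_38 j u) (Nat.ble (nat_lit 4) j)) (Nat.ble (nat_lit 2) j)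
noncomputable def chk_di (j u : ℕ) : Bool :=
  Bool.rec (motive := fun _ => Bool) (disp_di j u) (Nat.ble (Nat.succ (MG u)) A) (Nat.ble A (T_di u))
noncomputable def dp_e_0 (j u : ℕ) : Bool :=
  Bool.rec (motive := fun _ => Bool) (lF3 T_z T_ei T_zi M (Nat.sub (T_e u) (Nat.mod (T_e u) M)) (Nat.mod (T_e u) M) u) (lF [T_d, T_b, T_e, T_d, T_zi, T_b] M (Nat.sub (T_e u) (Nat.mod (T_e u) M)) (Nat.mod (T_e u) M) u) (Nat.ble (nat_lit 7) j)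
noncomputable def dp_e_1 (j u : ℕ) : Bool :=
  Bool.rec (motive := fun _ => Bool) (lS MG [T_e, T_e, T_e, T_e] M (Nat.sub (T_e u) (Nat.mod (T_e u) M)) (nat_lit 40) (Nat.mod (T_e u) M) u) (lF [T_d, T_zi, T_b, T_e, T_d, T_b] M (Nat.sub (T_e u) (Nat.mod (T_e u) M)) (Nat.mod (T_e u) M) u) (Nat.ble (nat_lit 10) j)
noncomputable def dp_e_2 (j u : ℕ) : Bool :=
  Bool.rec (motive := fun _ => Bool) (lS MG [T_d, T_zi, T_b, T_e, T_d, T_b] M (Nat.sub (T_e u) (Nat.mod (T_e u) M)) (nat_lit 40) (Nat.mod (T_e u) M) u) (dp_e_1 j u) (Nat.ble (nat_lit 9) j)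
noncomputable def dp_e_3 (j u : ℕ) : Bool :=
  Bool.rec (motive := fun _ => Bool) (lS MG [T_d, T_b, T_e, T_d, T_zi, T_b] M (Nat.sub (T_e u) (Nat.mod (T_e u) M)) (nat_lit 40) (Nat.mod (T_e u) M) u) (lS MG [T_z, T_ei, T_zi] M (Nat.sub (T_e u) (Nat.mod (T_e u) M)) (nat_lit 40) (Nat.mod (T_e u) M) u) (Nat.ble (nat_lit 12) j)
noncomputable def dp_e_4 (j u : ℕ) : Bool :=
  Bool.rec (motive := fun _ => Bool) (lS MG [T_bi, T_ei, T_b, T_e, T_bi, T_di, T_b, T_ei, T_bi, T_e, T_b] M (Nat.sub (T_e u) (Nat.mod (T_e u) M)) (nat_lit 40) (Nat.mod (T_e u) M) u) (lS MG [T_di, T_bi, T_di, T_ei, T_d, T_e, T_di, T_e, T_d, T_b, T_d] M (Nat.sub (T_e u) (Nat.mod (T_e u) M)) (nat_lit 40) (Nat.mod (T_e u) M) u) (Nat.ble (nat_lit 15) j)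
noncomputable def dp_e_5 (j u : ℕ) : Bool :=
  Bool.rec (motive := fun _ => Bool) (lS MG [T_zi, T_ei, T_z] M (Nat.sub (T_e u) (Nat.mod (T_e u) M)) (nat_lit 40) (Nat.mod (T_e u) M) u) (dp_e_4 j u) (Nat.ble (nat_lit 14) j)
noncomputable def dp_e_6 (j u : ℕ) : Bool :=
  Bool.rec (motive := fun _ => Bool) (dp_e_3 j u) (dp_e_5 j u) (Nat.ble (nat_lit 13) j)
noncomputable def dp_e_7 (j u : ℕ) : Bool :=
  Bool.rec (motive := fun _ => Bool) (lF [T_d, T_e, T_di, T_ei, T_b, T_di, T_b, T_ei, T_ei, T_bi, T_d, T_bi] M (Nat.sub (T_e u) (Nat.mod (T_e u) M)) (Nat.mod (T_e u) M) u) (lF [T_b, T_ei, T_bi, T_ei, T_b, T_e, T_bi, T_d, T_b, T_ei, T_bi] M (Nat.sub (T_e u) (Nat.mod (T_e u) M)) (Nat.mod (T_e u) M) u) (Nat.ble (nat_lit 17) j)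
noncomputable def dp_e_8 (j u : ℕ) : Bool :=
  Bool.rec (motive := fun _ => Bool) (lS MG [T_b, T_ei, T_bi, T_ei, T_b, T_e, T_bi, T_d, T_b, T_ei, T_bi] M (Nat.sub (T_e u) (Nat.mod (T_e u) M)) (nat_lit 40) (Nat.mod (T_e u) M) u) (lS MG [T_di, T_e, T_d, T_b, T_d, T_e, T_di, T_bi, T_di, T_ei, T_d] M (Nat.sub (T_e u) (Nat.mod (T_e u) M)) (nat_lit 40) (Nat.mod (T_e u) M) u) (Nat.ble (nat_lit 19) j)
noncomputable def dp_e_9 (j u : ℕ) : Bool :=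
  Bool.rec (motive := fun _ => Bool) (lS MG [T_d, T_b, T_d, T_e, T_di, T_bi, T_di, T_ei, T_d, T_e, T_di] M (Nat.sub (T_e u) (Nat.mod (T_e u) M)) (nat_lit 40) (Nat.mod (T_e u) M) u) (lF [T_di, T_bi, T_d, T_e, T_di, T_b, T_d, T_ei, T_bi, T_e, T_e, T_b] M (Nat.sub (T_e u) (Nat.mod (T_e u) M)) (Nat.mod (T_e u) M) u) (Nat.ble (nat_lit 21) j)
noncomputable def dp_e_10 (j u : ℕ) : Bool :=
  Bool.rec (motive := fun _ => Bool) (dp_e_8 j u) (dp_e_9 j u) (Nat.ble (nat_lit 20) j)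
noncomputable def dp_e_11 (j u : ℕ) : Bool :=
  Bool.rec (motive := fun _ => Bool) (dp_e_7 j u) (dp_e_10 j u) (Nat.ble (nat_lit 18) j)
noncomputable def dp_e_12 (j u : ℕ) : Bool :=
  Bool.rec (motive := fun _ => Bool) (lF [T_d, T_b, T_d, T_ei, T_di, T_bi, T_di, T_ei, T_d, T_ei, T_di] M (Nat.sub (T_e u) (Nat.mod (T_e u) M)) (Nat.mod (T_e u) M) u) (lF [T_di, T_di, T_ei, T_bi, T_ei, T_d, T_b, T_e, T_bi, T_di, T_e, T_b] M (Nat.sub (T_e u) (Nat.mod (T_e u) M)) (Nat.mod (T_e u) M) u) (Nat.ble (nat_lit 23) j)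
noncomputable def dp_e_13 (j u : ℕ) : Bool :=
  Bool.rec (motive := fun _ => Bool) (lF [T_bi, T_bi, T_ei, T_di, T_e, T_b, T_b, T_ei, T_b, T_di, T_di, T_bi] M (Nat.sub (T_e u) (Nat.mod (T_e u) M)) (Nat.mod (T_e u) M) u) (lS MG [T_bi, T_bi, T_ei, T_di, T_e, T_b, T_b, T_ei, T_b, T_di, T_di, T_bi] M (Nat.sub (T_e u) (Nat.mod (T_e u) M)) (nat_lit 40) (Nat.mod (T_e u) M) u) (Nat.ble (nat_lit 26) j)
noncomputable def dp_e_14 (j u : ℕ) : Bool :=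
  Bool.rec (motive := fun _ => Bool) (lF [T_bi, T_ei, T_b, T_e, T_bi, T_di, T_b, T_ei, T_bi, T_e, T_b] M (Nat.sub (T_e u) (Nat.mod (T_e u) M)) (Nat.mod (T_e u) M) u) (dp_e_13 j u) (Nat.ble (nat_lit 25) j)
noncomputable def dp_e_15 (j u : ℕ) : Bool :=
  Bool.rec (motive := fun _ => Bool) (dp_e_12 j u) (dp_e_14 j u) (Nat.ble (nat_lit 24) j)
noncomputable def dp_e_16 (j u : ℕ) : Bool :=
  Bool.rec (motive := fun _ => Bool) (lF [T_bi, T_di, T_b, T_ei, T_bi, T_e, T_b, T_e, T_bi, T_ei, T_b] M (Nat.sub (T_e u) (Nat.mod (T_e u) M)) (Nat.mod (T_e u) M) u) (lS MG [T_bi, T_d, T_b, T_ei, T_bi, T_e, T_b, T_ei, T_bi, T_ei, T_b] M (Nat.sub (T_e u) (Nat.mod (T_e u) M)) (nat_lit 40) (Nat.mod (T_e u) M) u) (Nat.ble (nat_lit 28) j)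
noncomputable def dp_e_17 (j u : ℕ) : Bool :=
  Bool.rec (motive := fun _ => Bool) (lF [T_d, T_ei, T_di, T_ei, T_b, T_di, T_b, T_e, T_e, T_bi, T_d, T_bi] M (Nat.sub (T_e u) (Nat.mod (T_e u) M)) (Nat.mod (T_e u) M) u) (lF [T_d, T_d, T_ei, T_bi, T_ei, T_d, T_b, T_ei, T_bi, T_di, T_e, T_b] M (Nat.sub (T_e u) (Nat.mod (T_e u) M)) (Nat.mod (T_e u) M) u) (Nat.ble (nat_lit 30) j)
noncomputable def dp_e_18 (j u : ℕ) : Bool :=
  Bool.rec (motive := fun _ => Bool) (dp_e_16 j u) (dp_e_17 j u) (Nat.ble (nat_lit 29) j)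
noncomputable def dp_e_19 (j u : ℕ) : Bool :=
  Bool.rec (motive := fun _ => Bool) (lF [T_d, T_b, T_d, T_e, T_di, T_bi, T_di, T_ei, T_d, T_e, T_di] M (Nat.sub (T_e u) (Nat.mod (T_e u) M)) (Nat.mod (T_e u) M) u) (lF [T_di, T_bi, T_di, T_ei, T_d, T_e, T_di, T_e, T_d, T_b, T_d] M (Nat.sub (T_e u) (Nat.mod (T_e u) M)) (Nat.mod (T_e u) M) u) (Nat.ble (nat_lit 32) j)
noncomputable def dp_e_20 (j u : ℕ) : Bool :=
  Bool.rec (motive := fun _ => Bool) (lF [T_di, T_e, T_d, T_b, T_d, T_e, T_di, T_bi, T_di, T_ei, T_d] M (Nat.sub (T_e u) (Nat.mod (T_e u) M)) (Nat.mod (T_e u) M) u) (lS MG [T_d, T_b, T_d, T_ei, T_di, T_bi, T_di, T_ei, T_d, T_ei, T_di] M (Nat.sub (T_e u) (Nat.mod (T_e u) M)) (nat_lit 40) (Nat.mod (T_e u) M) u) (Nat.ble (nat_lit 34) j)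
noncomputable def dp_e_21 (j u : ℕ) : Bool :=
  Bool.rec (motive := fun _ => Bool) (dp_e_19 j u) (dp_e_20 j u) (Nat.ble (nat_lit 33) j)
noncomputable def dp_e_22 (j u : ℕ) : Bool :=
  Bool.rec (motive := fun _ => Bool) (dp_e_18 j u) (dp_e_21 j u) (Nat.ble (nat_lit 31) j)
noncomputable def dp_e_23 (j u : ℕ) : Bool :=
  Bool.rec (motive := fun _ => Bool) (dp_e_15 j u) (dp_e_22 j u) (Nat.ble (nat_lit 27) j)
noncomputable def dp_e_24 (j u : ℕ) : Bool :=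
  Bool.rec (motive := fun _ => Bool) (dp_e_11 j u) (dp_e_23 j u) (Nat.ble (nat_lit 22) j)
noncomputable def dp_e_25 (j u : ℕ) : Bool :=
  Bool.rec (motive := fun _ => Bool) (dp_e_6 j u) (dp_e_24 j u) (Nat.ble (nat_lit 16) j)
noncomputable def dp_e_26 (j u : ℕ) : Bool :=
  Bool.rec (motive := fun _ => Bool) (dp_e_2 j u) (dp_e_25 j u) (Nat.ble (nat_lit 11) j)
noncomputable def dp_e_27 (j u : ℕ) : Bool :=
  Bool.rec (motive := fun _ => Bool) (dp_e_0 j u) (dp_e_26 j u) (Nat.ble (nat_lit 8) j)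
noncomputable def dp_e_28 (j u : ℕ) : Bool :=
  Bool.rec (motive := fun _ => Bool) (Bool.rec (motive := fun _ => Bool) (lF3 T_zi T_ei T_z M (Nat.sub (T_e u) (Nat.mod (T_e u) M)) (Nat.mod (T_e u) M) u) (lF [T_e, T_e, T_e, T_e] M (Nat.sub (T_e u) (Nat.mod (T_e u) M)) (Nat.mod (T_e u) M) u) (Nat.ble (nat_lit 5) j)) (dp_e_27 j u) (Nat.ble (nat_lit 6) j)
noncomputable def disp_e (j u : ℕ) : Bool :=
  Bool.rec (motive := fun _ => Bool) (Bool.rec (motive := fun _ => Bool) (lDef P (nat_lit 4) (Nat.mod (T_e u) M) u) (lDef P (nat_lit 5) u (Nat.mod (T_e u) M)) (Nat.ble (nat_lit 1) j)) (Bool.rec (motive := fun _ => Bool) (Bool.rec (motive := fun _ => Bool) (lF1 T_ei M (Nat.sub (T_e u) (Nat.mod (T_e u) M)) (Nat.mod (T_e u) M) u) (lS MG [T_ei] M (Nat.sub (T_e u) (Nat.mod (T_e u) M)) (nat_lit 40) (Nat.mod (T_e u) M) u) (Nat.ble (nat_lit 3) j)) (dp_e_28 j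 u) (Nat.ble (nat_lit 4) j)) (Nat.ble (nat_lit 2) j)
noncomputable def chk_e (j u : ℕ) : Bool :=
  Bool.rec (motive := fun _ => Bool) (disp_e j u) (Nat.ble (Nat.succ (MG u)) A) (Nat.ble A (T_e u))
noncomputable def dp_ei_0 (j u : ℕ) : Bool :=
  Bool.rec (motive := fun _ => Bool) (lS MG [T_ei, T_ei, T_ei, T_ei] M (Nat.sub (T_ei u) (Nat.mod (T_ei u) M)) (nat_lit 40) (Nat.mod (T_ei u) M) u) (lF [T_bi, T_di, T_ei, T_bi, T_z, T_di] M (Nat.sub (T_ei u) (Nat.mod (T_ei u) M)) (Nat.mod (T_ei u) M) u) (Nat.ble (nat_lit 8) j)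
noncomputable def dp_ei_1 (j u : ℕ) : Bool :=
  Bool.rec (motive := fun _ => Bool) (lS MG [T_bi, T_z, T_di, T_ei, T_bi, T_di] M (Nat.sub (T_ei u) (Nat.mod (T_ei u) M)) (nat_lit 40) (Nat.mod (T_ei u) M) u) (dp_ei_0 j u) (Nat.ble (nat_lit 7) j)
noncomputable def dp_ei_2 (j u : ℕ) : Bool :=
  Bool.rec (motive := fun _ => Bool) (lF [T_ei, T_ei, T_ei, T_ei] M (Nat.sub (T_ei u) (Nat.mod (T_ei u) M)) (Nat.mod (T_ei u) M) u) (lS MG [T_bi, T_di, T_ei, T_bi, T_z, T_di] M (Nat.sub (T_ei u) (Nat.mod (T_ei u) M)) (nat_lit 40) (Nat.mod (T_ei u) M) u) (Nat.ble (nat_lit 11) j)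
noncomputable def dp_ei_3 (j u : ℕ) : Bool :=
  Bool.rec (motive := fun _ => Bool) (lF [T_bi, T_z, T_di, T_ei, T_bi, T_di] M (Nat.sub (T_ei u) (Nat.mod (T_ei u) M)) (Nat.mod (T_ei u) M) u) (dp_ei_2 j u) (Nat.ble (nat_lit 10) j)
noncomputable def dp_ei_4 (j u : ℕ) : Bool :=
  Bool.rec (motive := fun _ => Bool) (lS MG [T_z, T_e, T_zi] M (Nat.sub (T_ei u) (Nat.mod (T_ei u) M)) (nat_lit 40) (Nat.mod (T_ei u) M) u) (lS MG [T_bi, T_ei, T_b, T_e, T_bi, T_d, T_b, T_ei, T_bi, T_e, T_b] M (Nat.sub (T_ei u) (Nat.mod (T_ei u) M)) (nat_lit 40) (Nat.mod (T_ei u) M) u) (Nat.ble (nat_lit 13) j)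
noncomputable def dp_ei_5 (j u : ℕ) : Bool :=
  Bool.rec (motive := fun _ => Bool) (lF [T_bi, T_ei, T_b, T_e, T_bi, T_d, T_b, T_ei, T_bi, T_e, T_b] M (Nat.sub (T_ei u) (Nat.mod (T_ei u) M)) (Nat.mod (T_ei u) M) u) (lF [T_b, T_e, T_bi, T_d, T_b, T_ei, T_bi, T_e, T_b, T_ei, T_bi] M (Nat.sub (T_ei u) (Nat.mod (T_ei u) M)) (Nat.mod (T_ei u) M) u) (Nat.ble (nat_lit 15) j)
noncomputable def dp_ei_6 (j u : ℕ) : Bool :=
  Bool.rec (motive := fun _ => Bool) (lS MG [T_bi, T_e, T_b, T_ei, T_bi, T_ei, T_b, T_e, T_bi, T_d, T_b] M (Nat.sub (T_ei u) (Nat.mod (T_ei u) M)) (nat_lit 40) (Nat.mod (T_ei u) M) u) (lS MG [T_zi, T_e, T_z] M (Nat.sub (T_ei u) (Nat.mod (T_ei u) M)) (nat_lit 40) (Nat.mod (T_ei u) M) u) (Nat.ble (nat_lit 17) j)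
noncomputable def dp_ei_7 (j u : ℕ) : Bool :=
  Bool.rec (motive := fun _ => Bool) (dp_ei_5 j u) (dp_ei_6 j u) (Nat.ble (nat_lit 16) j)
noncomputable def dp_ei_8 (j u : ℕ) : Bool :=
  Bool.rec (motive := fun _ => Bool) (dp_ei_4 j u) (dp_ei_7 j u) (Nat.ble (nat_lit 14) j)
noncomputable def dp_ei_9 (j u : ℕ) : Bool :=
  Bool.rec (motive := fun _ => Bool) (lF [T_bi, T_d, T_bi, T_e, T_d, T_e, T_di, T_ei, T_b, T_di, T_b, T_ei] M (Nat.sub (T_ei u) (Nat.mod (T_ei u) M)) (Nat.mod (T_ei u) M) u) (lS MG [T_b, T_e, T_bi, T_di, T_b, T_ei, T_bi, T_e, T_b, T_e, T_bi] M (Nat.sub (T_ei u) (Nat.mod (T_ei u) M)) (nat_lit 40) (Nat.mod (T_ei u) M) u) (Nat.ble (nat_lit 19) j)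
noncomputable def dp_ei_10 (j u : ℕ) : Bool :=
  Bool.rec (motive := fun _ => Bool) (lF [T_d, T_b, T_ei, T_bi, T_di, T_e, T_b, T_e, T_d, T_d, T_ei, T_bi] M (Nat.sub (T_ei u) (Nat.mod (T_ei u) M)) (Nat.mod (T_ei u) M) u) (lF [T_bi, T_e, T_b, T_e, T_bi, T_ei, T_b, T_e, T_bi, T_di, T_b] M (Nat.sub (T_ei u) (Nat.mod (T_ei u) M)) (Nat.mod (T_ei u) M) u) (Nat.ble (nat_lit 21) j)
noncomputable def dp_ei_11 (j u : ℕ) : Bool :=
  Bool.rec (motive := fun _ => Bool) (lF [T_d, T_e, T_di, T_e, T_d, T_b, T_d, T_e, T_di, T_bi, T_di] M (Nat.sub (T_ei u) (Nat.mod (T_ei u) M)) (Nat.mod (T_ei u) M) u) (lF [T_bi, T_e, T_b, T_ei, T_bi, T_ei, T_b, T_e, T_bi, T_d, T_b] M (Nat.sub (T_ei u) (Nat.mod (T_ei u) M)) (Nat.mod (T_ei u) M) u) (Nat.ble (nat_lit 24) j)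
noncomputable def dp_ei_12 (j u : ℕ) : Bool :=
  Bool.rec (motive := fun _ => Bool) (lF [T_d, T_e, T_b, T_b, T_ei, T_b, T_d, T_d, T_bi, T_e, T_bi, T_bi] M (Nat.sub (T_ei u) (Nat.mod (T_ei u) M)) (Nat.mod (T_ei u) M) u) (dp_ei_11 j u) (Nat.ble (nat_lit 23) j)
noncomputable def dp_ei_13 (j u : ℕ) : Bool :=
  Bool.rec (motive := fun _ => Bool) (dp_ei_10 j u) (dp_ei_12 j u) (Nat.ble (nat_lit 22) j)
noncomputable def dp_ei_14 (j u : ℕ) : Bool :=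
  Bool.rec (motive := fun _ => Bool) (dp_ei_9 j u) (dp_ei_13 j u) (Nat.ble (nat_lit 20) j)
noncomputable def dp_ei_15 (j u : ℕ) : Bool :=
  Bool.rec (motive := fun _ => Bool) (lS MG [T_di, T_e, T_d, T_b, T_d, T_ei, T_di, T_bi, T_di, T_ei, T_d] M (Nat.sub (T_ei u) (Nat.mod (T_ei u) M)) (nat_lit 40) (Nat.mod (T_ei u) M) u) (lF [T_d, T_ei, T_di, T_e, T_d, T_b, T_d, T_ei, T_di, T_bi, T_di] M (Nat.sub (T_ei u) (Nat.mod (T_ei u) M)) (Nat.mod (T_ei u) M) u) (Nat.ble (nat_lit 26) j)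
noncomputable def dp_ei_16 (j u : ℕ) : Bool :=
  Bool.rec (motive := fun _ => Bool) (lS MG [T_bi, T_e, T_e, T_b, T_e, T_di, T_bi, T_d, T_e, T_di, T_b, T_d] M (Nat.sub (T_ei u) (Nat.mod (T_ei u) M)) (nat_lit 40) (Nat.mod (T_ei u) M) u) (lF [T_di, T_e, T_b, T_b, T_ei, T_b, T_di, T_di, T_bi, T_e, T_bi, T_bi] M (Nat.sub (T_ei u) (Nat.mod (T_ei u) M)) (Nat.mod (T_ei u) M) u) (Nat.ble (nat_lit 29) j)
noncomputable def dp_ei_17 (j u : ℕ) : Bool :=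
  Bool.rec (motive := fun _ => Bool) (lF [T_b, T_d, T_d, T_bi, T_e, T_bi, T_bi, T_ei, T_d, T_e, T_b, T_b] M (Nat.sub (T_ei u) (Nat.mod (T_ei u) M)) (Nat.mod (T_ei u) M) u) (dp_ei_16 j u) (Nat.ble (nat_lit 28) j)
noncomputable def dp_ei_18 (j u : ℕ) : Bool :=
  Bool.rec (motive := fun _ => Bool) (dp_ei_15 j u) (dp_ei_17 j u) (Nat.ble (nat_lit 27) j)
noncomputable def dp_ei_19 (j u : ℕ) : Bool :=
  Bool.rec (motive := fun _ => Bool) (lS MG [T_b, T_e, T_bi, T_d, T_b, T_ei, T_bi, T_e, T_b, T_ei, T_bi] M (Nat.sub (T_ei u) (Nat.mod (T_ei u) M)) (nat_lit 40) (Nat.mod (T_ei u) M) u) (lF [T_b, T_e, T_bi, T_di, T_b, T_ei, T_bi, T_e, T_b, T_e, T_bi] M (Nat.sub (T_ei u) (Nat.mod (T_ei u) M)) (Nat.mod (T_ei u) M) u) (Nat.ble (nat_lit 31) j)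
noncomputable def dp_ei_20 (j u : ℕ) : Bool :=
  Bool.rec (motive := fun _ => Bool) (lS MG [T_bi, T_ei, T_d, T_b, T_e, T_e, T_bi, T_di, T_e, T_b, T_e, T_d] M (Nat.sub (T_ei u) (Nat.mod (T_ei u) M)) (nat_lit 40) (Nat.mod (T_ei u) M) u) (lS MG [T_bi, T_e, T_b, T_e, T_bi, T_ei, T_b, T_e, T_bi, T_di, T_b] M (Nat.sub (T_ei u) (Nat.mod (T_ei u) M)) (nat_lit 40) (Nat.mod (T_ei u) M) u) (Nat.ble (nat_lit 34) j)
noncomputable def dp_ei_21 (j u : ℕ) : Bool :=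
  Bool.rec (motive := fun _ => Bool) (lF [T_di, T_bi, T_di, T_ei, T_d, T_ei, T_di, T_e, T_d, T_b, T_d] M (Nat.sub (T_ei u) (Nat.mod (T_ei u) M)) (Nat.mod (T_ei u) M) u) (dp_ei_20 j u) (Nat.ble (nat_lit 33) j)
noncomputable def dp_ei_22 (j u : ℕ) : Bool :=
  Bool.rec (motive := fun _ => Bool) (dp_ei_19 j u) (dp_ei_21 j u) (Nat.ble (nat_lit 32) j)
noncomputable def dp_ei_23 (j u : ℕ) : Bool :=
  Bool.rec (motive := fun _ => Bool) (dp_ei_18 j u) (dp_ei_22 j u) (Nat.ble (nat_lit 30) j)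
noncomputable def dp_ei_24 (j u : ℕ) : Bool :=
  Bool.rec (motive := fun _ => Bool) (dp_ei_14 j u) (dp_ei_23 j u) (Nat.ble (nat_lit 25) j)
noncomputable def dp_ei_25 (j u : ℕ) : Bool :=
  Bool.rec (motive := fun _ => Bool) (dp_ei_8 j u) (dp_ei_24 j u) (Nat.ble (nat_lit 18) j)
noncomputable def dp_ei_26 (j u : ℕ) : Bool :=
  Bool.rec (motive := fun _ => Bool) (dp_ei_3 j u) (dp_ei_25 j u) (Nat.ble (nat_lit 12) j)
noncomputable def dp_ei_27 (j u : ℕ) : Bool :=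
  Bool.rec (motive := fun _ => Bool) (dp_ei_1 j u) (dp_ei_26 j u) (Nat.ble (nat_lit 9) j)
noncomputable def dp_ei_28 (j u : ℕ) : Bool :=
  Bool.rec (motive := fun _ => Bool) (Bool.rec (motive := fun _ => Bool) (lS MG [T_e] M (Nat.sub (T_ei u) (Nat.mod (T_ei u) M)) (nat_lit 40) (Nat.mod (T_ei u) M) u) (lF3 T_z T_e T_zi M (Nat.sub (T_ei u) (Nat.mod (T_ei u) M)) (Nat.mod (T_ei u) M) u) (Nat.ble (nat_lit 5) j)) (dp_ei_27 j u) (Nat.ble (nat_lit 6) j)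
noncomputable def dp_ei_29 (j u : ℕ) : Bool :=
  Bool.rec (motive := fun _ => Bool) (Bool.rec (motive := fun _ => Bool) (lF1 T_e M (Nat.sub (T_ei u) (Nat.mod (T_ei u) M)) (Nat.mod (T_ei u) M) u) (lF3 T_zi T_e T_z M (Nat.sub (T_ei u) (Nat.mod (T_ei u) M)) (Nat.mod (T_ei u) M) u) (Nat.ble (nat_lit 3) j)) (dp_ei_28 j u) (Nat.ble (nat_lit 4) j)
noncomputable def disp_ei (j u : ℕ) : Bool :=
  Bool.rec (motive := fun _ => Bool) (Bool.rec (motive := fun _ => Bool) (lDef P (nat_lit 4) u (Nat.mod (T_ei u) M)) (lDef P (nat_lit 5) (Nat.mod (T_ei u) M) u) (Nat.ble (nat_lit 1) j)) (dp_ei_29 j u) (Nat.ble (nat_lit 2) j)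
noncomputable def chk_ei (j u : ℕ) : Bool :=
  Bool.rec (motive := fun _ => Bool) (disp_ei j u) (Nat.ble (Nat.succ (MG u)) A) (Nat.ble A (T_ei u))
noncomputable def dp_z_0 (j u : ℕ) : Bool :=
  Bool.rec (motive := fun _ => Bool) (lF3 T_d T_zi T_di M (Nat.sub (T_z u) (Nat.mod (T_z u) M)) (Nat.mod (T_z u) M) u) (lF3 T_di T_zi T_d M (Nat.sub (T_z u) (Nat.mod (T_z u) M)) (Nat.mod (T_z u) M) u) (Nat.ble (nat_lit 5) j)
noncomputable def dp_z_1 (j u : ℕ) : Bool :=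
  Bool.rec (motive := fun _ => Bool) (lS MG [T_zi] M (Nat.sub (T_z u) (Nat.mod (T_z u) M)) (nat_lit 40) (Nat.mod (T_z u) M) u) (dp_z_0 j u) (Nat.ble (nat_lit 4) j)
noncomputable def dp_z_2 (j u : ℕ) : Bool :=
  Bool.rec (motive := fun _ => Bool) (lF3 T_ei T_zi T_e M (Nat.sub (T_z u) (Nat.mod (T_z u) M)) (Nat.mod (T_z u) M) u) (lF3 T_bi T_zi T_b M (Nat.sub (T_z u) (Nat.mod (T_z u) M)) (Nat.mod (T_z u) M) u) (Nat.ble (nat_lit 7) j)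
noncomputable def dp_z_3 (j u : ℕ) : Bool :=
  Bool.rec (motive := fun _ => Bool) (lF3 T_b T_zi T_bi M (Nat.sub (T_z u) (Nat.mod (T_z u) M)) (Nat.mod (T_z u) M) u) (lF3 T_e T_zi T_ei M (Nat.sub (T_z u) (Nat.mod (T_z u) M)) (Nat.mod (T_z u) M) u) (Nat.ble (nat_lit 9) j)
noncomputable def dp_z_4 (j u : ℕ) : Bool :=
  Bool.rec (motive := fun _ => Bool) (lF [T_di, T_ei, T_bi, T_di, T_ei, T_bi] M (Nat.sub (T_z u) (Nat.mod (T_z u) M)) (Nat.mod (T_z u) M) u) (lS MG [T_d, T_zi, T_di] M (Nat.sub (T_z u) (Nat.mod (T_z u) M)) (nat_lit 40) (Nat.mod (T_z u) M) u) (Nat.ble (nat_lit 12) j)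
noncomputable def dp_z_5 (j u : ℕ) : Bool :=
  Bool.rec (motive := fun _ => Bool) (lS MG [T_ei, T_zi, T_e] M (Nat.sub (T_z u) (Nat.mod (T_z u) M)) (nat_lit 40) (Nat.mod (T_z u) M) u) (dp_z_4 j u) (Nat.ble (nat_lit 11) j)
noncomputable def dp_z_6 (j u : ℕ) : Bool :=
  Bool.rec (motive := fun _ => Bool) (lS MG [T_b, T_zi, T_bi] M (Nat.sub (T_z u) (Nat.mod (T_z u) M)) (nat_lit 40) (Nat.mod (T_z u) M) u) (lS MG [T_di, T_zi, T_d] M (Nat.sub (T_z u) (Nat.mod (T_z u) M)) (nat_lit 40) (Nat.mod (T_z u) M) u) (Nat.ble (nat_lit 14) j)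
noncomputable def dp_z_7 (j u : ℕ) : Bool :=
  Bool.rec (motive := fun _ => Bool) (lS MG [T_di, T_ei, T_bi, T_di, T_ei, T_bi] M (Nat.sub (T_z u) (Nat.mod (T_z u) M)) (nat_lit 40) (Nat.mod (T_z u) M) u) (lS MG [T_bi, T_zi, T_b] M (Nat.sub (T_z u) (Nat.mod (T_z u) M)) (nat_lit 40) (Nat.mod (T_z u) M) u) (Nat.ble (nat_lit 16) j)
noncomputable def dp_z_8 (j u : ℕ) : Bool :=
  Bool.rec (motive := fun _ => Bool) (lF [T_z, T_z, T_z, T_z, T_z] M (Nat.sub (T_z u) (Nat.mod (T_z u) M)) (Nat.mod (T_z u) M) u) (lS MG [T_z, T_z, T_z, T_z, T_z] M (Nat.sub (T_z u) (Nat.mod (T_z u) M)) (nat_lit 40) (Nat.mod (T_z u) M) u) (Nat.ble (nat_lit 19) j)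
noncomputable def dp_z_9 (j u : ℕ) : Bool :=
  Bool.rec (motive := fun _ => Bool) (lS MG [T_e, T_zi, T_ei] M (Nat.sub (T_z u) (Nat.mod (T_z u) M)) (nat_lit 40) (Nat.mod (T_z u) M) u) (dp_z_8 j u) (Nat.ble (nat_lit 18) j)
noncomputable def dp_z_10 (j u : ℕ) : Bool :=
  Bool.rec (motive := fun _ => Bool) (dp_z_7 j u) (dp_z_9 j u) (Nat.ble (nat_lit 17) j)
noncomputable def dp_z_11 (j u : ℕ) : Bool :=
  Bool.rec (motive := fun _ => Bool) (dp_z_6 j u) (dp_z_10 j u) (Nat.ble (nat_lit 15) j)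
noncomputable def dp_z_12 (j u : ℕ) : Bool :=
  Bool.rec (motive := fun _ => Bool) (dp_z_5 j u) (dp_z_11 j u) (Nat.ble (nat_lit 13) j)
noncomputable def dp_z_13 (j u : ℕ) : Bool :=
  Bool.rec (motive := fun _ => Bool) (dp_z_3 j u) (dp_z_12 j u) (Nat.ble (nat_lit 10) j)
noncomputable def dp_z_14 (j u : ℕ) : Bool :=
  Bool.rec (motive := fun _ => Bool) (dp_z_2 j u) (dp_z_13 j u) (Nat.ble (nat_lit 8) j)
noncomputable def dp_z_15 (j u : ℕ) : Bool :=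
  Bool.rec (motive := fun _ => Bool) (dp_z_1 j u) (dp_z_14 j u) (Nat.ble (nat_lit 6) j)
noncomputable def dp_z_16 (j u : ℕ) : Bool :=
  Bool.rec (motive := fun _ => Bool) (lF1 T_zi M (Nat.sub (T_z u) (Nat.mod (T_z u) M)) (Nat.mod (T_z u) M) u) (dp_z_15 j u) (Nat.ble (nat_lit 3) j)
noncomputable def disp_z (j u : ℕ) : Bool :=
  Bool.rec (motive := fun _ => Bool) (Bool.rec (motive := fun _ => Bool) (lDef P (nat_lit 6) (Nat.mod (T_z u) M) u) (lDef P (nat_lit 7) u (Nat.mod (T_z u) M)) (Nat.ble (nat_lit 1) j)) (dp_z_16 j u) (Nat.ble (nat_lit 2) j)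
noncomputable def chk_z (j u : ℕ) : Bool :=
  Bool.rec (motive := fun _ => Bool) (disp_z j u) (Nat.ble (Nat.succ (MG u)) A) (Nat.ble A (T_z u))
noncomputable def dp_zi_0 (j u : ℕ) : Bool :=
  Bool.rec (motive := fun _ => Bool) (lF3 T_bi T_z T_b M (Nat.sub (T_zi u) (Nat.mod (T_zi u) M)) (Nat.mod (T_zi u) M) u) (lS MG [T_e, T_z, T_ei] M (Nat.sub (T_zi u) (Nat.mod (T_zi u) M)) (nat_lit 40) (Nat.mod (T_zi u) M) u) (Nat.ble (nat_lit 6) j)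
noncomputable def dp_zi_1 (j u : ℕ) : Bool :=
  Bool.rec (motive := fun _ => Bool) (lS MG [T_ei, T_z, T_e] M (Nat.sub (T_zi u) (Nat.mod (T_zi u) M)) (nat_lit 40) (Nat.mod (T_zi u) M) u) (dp_zi_0 j u) (Nat.ble (nat_lit 5) j)
noncomputable def dp_zi_2 (j u : ℕ) : Bool :=
  Bool.rec (motive := fun _ => Bool) (lS MG [T_di, T_z, T_d] M (Nat.sub (T_zi u) (Nat.mod (T_zi u) M)) (nat_lit 40) (Nat.mod (T_zi u) M) u) (lS MG [T_d, T_z, T_di] M (Nat.sub (T_zi u) (Nat.mod (T_zi u) M)) (nat_lit 40) (Nat.mod (T_zi u) M) u) (Nat.ble (nat_lit 8) j)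
noncomputable def dp_zi_3 (j u : ℕ) : Bool :=
  Bool.rec (motive := fun _ => Bool) (lS MG [T_bi, T_z, T_b] M (Nat.sub (T_zi u) (Nat.mod (T_zi u) M)) (nat_lit 40) (Nat.mod (T_zi u) M) u) (lS MG [T_z] M (Nat.sub (T_zi u) (Nat.mod (T_zi u) M)) (nat_lit 40) (Nat.mod (T_zi u) M) u) (Nat.ble (nat_lit 10) j)
noncomputable def dp_zi_4 (j u : ℕ) : Bool :=
  Bool.rec (motive := fun _ => Bool) (dp_zi_2 j u) (dp_zi_3 j u) (Nat.ble (nat_lit 9) j)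
noncomputable def dp_zi_5 (j u : ℕ) : Bool :=
  Bool.rec (motive := fun _ => Bool) (lF3 T_b T_z T_bi M (Nat.sub (T_zi u) (Nat.mod (T_zi u) M)) (Nat.mod (T_zi u) M) u) (lF3 T_di T_z T_d M (Nat.sub (T_zi u) (Nat.mod (T_zi u) M)) (Nat.mod (T_zi u) M) u) (Nat.ble (nat_lit 12) j)
noncomputable def dp_zi_6 (j u : ℕ) : Bool :=
  Bool.rec (motive := fun _ => Bool) (lF3 T_d T_z T_di M (Nat.sub (T_zi u) (Nat.mod (T_zi u) M)) (Nat.mod (T_zi u) M) u) (lF3 T_e T_z T_ei M (Nat.sub (T_zi u) (Nat.mod (T_zi u) M)) (Nat.mod (T_zi u) M) u) (Nat.ble (nat_lit 14) j)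
noncomputable def dp_zi_7 (j u : ℕ) : Bool :=
  Bool.rec (motive := fun _ => Bool) (lF3 T_ei T_z T_e M (Nat.sub (T_zi u) (Nat.mod (T_zi u) M)) (Nat.mod (T_zi u) M) u) (lF [T_b, T_e, T_d, T_b, T_e, T_d] M (Nat.sub (T_zi u) (Nat.mod (T_zi u) M)) (Nat.mod (T_zi u) M) u) (Nat.ble (nat_lit 16) j)
noncomputable def dp_zi_8 (j u : ℕ) : Bool :=
  Bool.rec (motive := fun _ => Bool) (dp_zi_6 j u) (dp_zi_7 j u) (Nat.ble (nat_lit 15) j)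
noncomputable def dp_zi_9 (j u : ℕ) : Bool :=
  Bool.rec (motive := fun _ => Bool) (dp_zi_5 j u) (dp_zi_8 j u) (Nat.ble (nat_lit 13) j)
noncomputable def dp_zi_10 (j u : ℕ) : Bool :=
  Bool.rec (motive := fun _ => Bool) (dp_zi_4 j u) (dp_zi_9 j u) (Nat.ble (nat_lit 11) j)
noncomputable def dp_zi_11 (j u : ℕ) : Bool :=
  Bool.rec (motive := fun _ => Bool) (Bool.rec (motive := fun _ => Bool) (Bool.rec (motive := fun _ => Bool) (lF1 T_z M (Nat.sub (T_zi u) (Nat.mod (T_zi u) M)) (Nat.mod (T_zi u) M) u) (lS MG [T_b, T_z, T_bi] M (Nat.sub (T_zi u) (Nat.mod (T_zi u) M)) (nat_lit 40) (Nat.mod (T_zi u) M) u) (Nat.ble (nat_lit 3) j)) (dp_zi_1 j u) (Nat.ble (nat_lit 4) j)) (dp_zi_10 j u) (Nat.ble (nat_lit 7) j)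
noncomputable def disp_zi (j u : ℕ) : Bool :=
  Bool.rec (motive := fun _ => Bool) (Bool.rec (motive := fun _ => Bool) (lDef P (nat_lit 6) u (Nat.mod (T_zi u) M)) (lDef P (nat_lit 7) (Nat.mod (T_zi u) M) u) (Nat.ble (nat_lit 1) j)) (dp_zi_11 j u) (Nat.ble (nat_lit 2) j)
noncomputable def chk_zi (j u : ℕ) : Bool :=
  Bool.rec (motive := fun _ => Bool) (disp_zi j u) (Nat.ble (Nat.succ (MG u)) A) (Nat.ble A (T_zi u))
noncomputable def dM_0 (j z1 z2 u : ℕ) : Bool :=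
  Bool.rec (motive := fun _ => Bool) (Bool.rec (motive := fun _ => Bool) (mCo MG T_e M (Nat.sub (MG u) (Nat.mod (MG u) M)) (nat_lit 40) z1 z2 u (Nat.mod (MG u) M)) (mCo MG T_bi M (Nat.sub (MG u) (Nat.mod (MG u) M)) (nat_lit 40) z1 z2 u (Nat.mod (MG u) M)) (Nat.ble (nat_lit 1) j)) (Bool.rec (motive := fun _ => Bool) (mCo MG T_di M (Nat.sub (MG u) (Nat.mod (MG u) M)) (nat_lit 40) z1 z2 u (Nat.mod (MG u) M)) (mCo MG T_ei M (Nat.sub (MG u) (Nat.mod (MG u) M)) (nat_lit 40) z1 z2 u (Nat.mod (MG u) M)) (Nat.ble (nat_lit 3) j)) (Nat.ble (nat_lit 2) j)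
noncomputable def dM_1 (j z1 z2 u : ℕ) : Bool :=
  Bool.rec (motive := fun _ => Bool) (mCo MG T_d M (Nat.sub (MG u) (Nat.mod (MG u) M)) (nat_lit 40) z1 z2 u (Nat.mod (MG u) M)) (mCo MG T_b M (Nat.sub (MG u) (Nat.mod (MG u) M)) (nat_lit 40) z1 z2 u (Nat.mod (MG u) M)) (Nat.ble (nat_lit 5) j)
noncomputable def dM_2 (j z1 z2 u : ℕ) : Bool :=
  Bool.rec (motive := fun _ => Bool) (mCo MG T_z M (Nat.sub (MG u) (Nat.mod (MG u) M)) (nat_lit 40) z1 z2 u (Nat.mod (MG u) M)) (Bool.rec (motive := fun _ => Bool) (mCo MG T_zi M (Nat.sub (MG u) (Nat.mod (MG u) M)) (nat_lit 40) z1 z2 u (Nat.mod (MG u) M)) (Bool.rec (motive := fun _ => Bool) (Bool.rec (motive := fun _ => Bool) (mRel MG [T_e, T_d, T_b, T_e] [T_bi, T_z, T_di] M (Nat.sub (MG u) (Nat.mod (MG u) M)) (nat_lit 40) z1 u (Nat.mod (MG u) M)) (Bool.rec (motive := fun _ => Bool) (mRel MG [T_ei, T_bi, T_di]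 [T_d, T_zi, T_b, T_e] M (Nat.sub (MG u) (Nat.mod (MG u) M)) (nat_lit 40) z1 u (Nat.mod (MG u) M)) (mRel MG [T_e, T_d, T_b] [T_bi, T_z, T_di, T_ei] M (Nat.sub (MG u) (Nat.mod (MG u) M)) (nat_lit 40) z1 u (Nat.mod (MG u) M)) (Nat.ble (nat_lit 10) j)) (Nat.ble (nat_lit 9) j)) (Bool.rec (motive := fun _ => Bool) (Bool.rec (motive := fun _ => Bool) (mRel MG [T_ei, T_bi, T_di, T_ei] [T_d, T_zi, T_b] M (Nat.sub (MG u) (Nat.mod (MG u) M)) (nat_lit 40) z1 u (Nat.mod (MG u) M)) (mRel MG [T_bi, T_di, T_ei] [T_e, T_d, T_zi, T_b] M (Nat.sub (MG u) (Nat.mod (MG u) M)) (nat_lit 40) z1 u (Nat.mod (MG u) M)) (Nat.ble (nat_lit 12) j)) (Bool.rec (motive := fun _ => Bool) (mRel MG [T_bi, T_di] [T_e, T_d, T_zi, T_b, T_e] M (Nat.sub (MG u) (Nat.mod (MG u) M)) (nat_lit 40) z1 u (Nat.mod (MG u) M)) (Bool.rec (motive := fun _ => Bool) (mRel MG [T_b, T_b, T_b, T_d]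 [T_d, T_b] M (Nat.sub (MG u) (Nat.mod (MG u) M)) (nat_lit 40) z1 u (Nat.mod (MG u) M)) (mRel MG [T_d, T_b, T_e] [T_ei, T_bi, T_z, T_di] M (Nat.sub (MG u) (Nat.mod (MG u) M)) (nat_lit 40) z1 u (Nat.mod (MG u) M)) (Nat.ble (nat_lit 15) j)) (Nat.ble (nat_lit 14) j)) (Nat.ble (nat_lit 13) j)) (Nat.ble (nat_lit 11) j)) (Nat.ble (nat_lit 8) j)) (Nat.ble (nat_lit 7) j)
noncomputable def dM_3 (j z1 z2 u : ℕ) : Bool :=
  Bool.rec (motive := fun _ => Bool) (Bool.rec (motive := fun _ => Bool) (Bool.rec (motive := fun _ => Bool) (mRel MG [T_d, T_bi, T_di, T_b] [T_bi, T_bi] M (Nat.sub (MG u) (Nat.mod (MG u) M)) (nat_lit 40) z1 u (Nat.mod (MG u) M)) (mRel MG [T_di, T_ei, T_bi, T_di, T_ei] [T_zi, T_b] M (Nat.sub (MG u) (Nat.mod (MG u) M)) (nat_lit 40) z1 u (Nat.mod (MG u) M)) (Nat.ble (nat_lit 17) j)) (Bool.rec (motive := fun _ => Bool) (mRel MG [T_bi, T_d,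 T_b, T_di] [T_b, T_b] M (Nat.sub (MG u) (Nat.mod (MG u) M)) (nat_lit 40) z1 u (Nat.mod (MG u) M)) (mRel MG [T_e, T_z] [T_z, T_e] M (Nat.sub (MG u) (Nat.mod (MG u) M)) (nat_lit 40) z1 u (Nat.mod (MG u) M)) (Nat.ble (nat_lit 19) j)) (Nat.ble (nat_lit 18) j)) (Bool.rec (motive := fun _ => Bool) (Bool.rec (motive := fun _ => Bool) (mRel MG [T_d, T_zi] [T_zi, T_d] M (Nat.sub (MG u) (Nat.mod (MG u) M)) (nat_lit 40) z1 u (Nat.mod (MG u) M)) (mRel MG [T_di, T_di, T_di] [T_d, T_d] M (Nat.sub (MG u) (Nat.mod (MG u) M)) (nat_lit 40) z1 u (Nat.mod (MG u) M)) (Nat.ble (nat_lit 21) j)) (Bool.rec (motive := fun _ => Bool) (mRel MG [T_di, T_di] [T_d, T_d, T_d] M (Nat.sub (MG u) (Nat.mod (MG u) M)) (nat_lit 40) z1 u (Nat.mod (MG u) M)) (mRel MG [T_b, T_zi] [T_zi, T_b] M (Nat.sub (MG u) (Nat.mod (MG u) M)) (nat_lit 40) z1 u (Nat.mod (MG u) M)) (Nat.ble (nat_lit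 23) j)) (Nat.ble (nat_lit 22) j)) (Nat.ble (nat_lit 20) j)
noncomputable def dM_4 (j z1 z2 u : ℕ) : Bool :=
  Bool.rec (motive := fun _ => Bool) (Bool.rec (motive := fun _ => Bool) (Bool.rec (motive := fun _ => Bool) (mRel MG [T_ei, T_di, T_bi, T_di, T_ei, T_d, T_ei] [T_di, T_bi, T_di, T_ei, T_d] M (Nat.sub (MG u) (Nat.mod (MG u) M)) (nat_lit 40) z1 u (Nat.mod (MG u) M)) (mRel MG [T_di, T_ei, T_bi, T_di] [T_zi, T_b, T_e] M (Nat.sub (MG u) (Nat.mod (MG u) M)) (nat_lit 40) z1 u (Nat.mod (MG u) M)) (Nat.ble (nat_lit 25) j)) (Bool.rec (motive := fun _ => Bool) (mRel MG [T_bi, T_di] [T_di, T_bi, T_bi, T_bi] M (Nat.sub (MG u) (Nat.mod (MG u) M)) (nat_lit 40) z1 u (Nat.mod (MG u) M)) (Bool.rec (motive := fun _ => Bool) (mRel MG [T_e, T_e, T_e] [T_ei, T_ei] M (Nat.sub (MG u) (Nat.mod (MG u) M)) (nat_lit 40) z1 u (Nat.mod (MG u) M)) (mRel MG [T_zi,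 T_b, T_e] [T_di, T_ei, T_bi, T_di] M (Nat.sub (MG u) (Nat.mod (MG u) M)) (nat_lit 40) z1 u (Nat.mod (MG u) M)) (Nat.ble (nat_lit 28) j)) (Nat.ble (nat_lit 27) j)) (Nat.ble (nat_lit 26) j)) (Bool.rec (motive := fun _ => Bool) (Bool.rec (motive := fun _ => Bool) (mRel MG [T_d, T_b] [T_ei, T_bi, T_z, T_di, T_ei] M (Nat.sub (MG u) (Nat.mod (MG u) M)) (nat_lit 40) z1 u (Nat.mod (MG u) M)) (mRel MG [T_zi, T_b] [T_b, T_zi] M (Nat.sub (MG u) (Nat.mod (MG u) M)) (nat_lit 40) z1 u (Nat.mod (MG u) M)) (Nat.ble (nat_lit 30) j)) (Bool.rec (motive := fun _ => Bool) (Bool.rec (motive := fun _ => Bool) (mRel MG [T_d, T_b, T_e, T_d, T_zi] [T_ei, T_bi] M (Nat.sub (MG u) (Nat.mod (MG u) M)) (nat_lit 40) z1 u (Nat.mod (MG u) M)) (mRel MG [T_b, T_e, T_d, T_b, T_e] [T_z, T_di] M (Nat.sub (MG u) (Nat.mod (MG u) M)) (nat_lit 40) z1 u (Nat.mod (MG u) M)) (Nat.ble (nat_lit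 32) j)) (Bool.rec (motive := fun _ => Bool) (mRel MG [T_bi, T_bi, T_d, T_b] [T_b, T_d] M (Nat.sub (MG u) (Nat.mod (MG u) M)) (nat_lit 40) z1 u (Nat.mod (MG u) M)) (mRel MG [T_bi, T_zi] [T_zi, T_bi] M (Nat.sub (MG u) (Nat.mod (MG u) M)) (nat_lit 40) z1 u (Nat.mod (MG u) M)) (Nat.ble (nat_lit 34) j)) (Nat.ble (nat_lit 33) j)) (Nat.ble (nat_lit 31) j)) (Nat.ble (nat_lit 29) j)
noncomputable def dM_5 (j z1 z2 u : ℕ) : Bool :=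
  Bool.rec (motive := fun _ => Bool) (dM_3 j z1 z2 u) (dM_4 j z1 z2 u) (Nat.ble (nat_lit 24) j)
noncomputable def dM_6 (j z1 z2 u : ℕ) : Bool :=
  Bool.rec (motive := fun _ => Bool) (Bool.rec (motive := fun _ => Bool) (mRel MG [T_zi, T_d] [T_d, T_zi] M (Nat.sub (MG u) (Nat.mod (MG u) M)) (nat_lit 40) z1 u (Nat.mod (MG u) M)) (Bool.rec (motive := fun _ => Bool) (mRel MG [T_ei, T_bi, T_e, T_b, T_ei, T_bi, T_ei] [T_bi, T_di, T_b, T_ei, T_bi] M (Nat.sub (MG u) (Nat.mod (MG u) M)) (nat_lit 40) z1 u (Nat.mod (MG u) M)) (mRel MG [T_bi, T_bi, T_bi] [T_d, T_bi, T_di] M (Nat.sub (MG u) (Nat.mod (MG u) M)) (nat_lit 40) z1 u (Nat.mod (MG u) M)) (Nat.ble (nat_lit 37) j)) (Nat.ble (nat_lit 36) j)) (Bool.rec (motive := fun _ => Bool) (Bool.rec (motive := fun _ => Bool) (mRel MG [T_di, T_bi, T_bi, T_bi] [T_bi, T_di] M (Nat.sub (MG u) (Nat.mod (MG u) M)) (nat_lit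 40) z1 u (Nat.mod (MG u) M)) (mRel MG [T_b, T_di] [T_di, T_b, T_b, T_b] M (Nat.sub (MG u) (Nat.mod (MG u) M)) (nat_lit 40) z1 u (Nat.mod (MG u) M)) (Nat.ble (nat_lit 39) j)) (Bool.rec (motive := fun _ => Bool) (mRel MG [T_z, T_bi] [T_bi, T_z] M (Nat.sub (MG u) (Nat.mod (MG u) M)) (nat_lit 40) z1 u (Nat.mod (MG u) M)) (mRel MG [T_ei, T_ei, T_ei, T_ei] [T_e] M (Nat.sub (MG u) (Nat.mod (MG u) M)) (nat_lit 40) z1 u (Nat.mod (MG u) M)) (Nat.ble (nat_lit 41) j)) (Nat.ble (nat_lit 40) j)) (Nat.ble (nat_lit 38) j)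
noncomputable def dM_7 (j z1 z2 u : ℕ) : Bool :=
  Bool.rec (motive := fun _ => Bool) (Bool.rec (motive := fun _ => Bool) (Bool.rec (motive := fun _ => Bool) (mRel MG [T_di, T_b] [T_b, T_di, T_bi, T_bi] M (Nat.sub (MG u) (Nat.mod (MG u) M)) (nat_lit 40) z1 u (Nat.mod (MG u) M)) (mRel MG [T_b, T_e] [T_z, T_di, T_ei, T_bi, T_di] M (Nat.sub (MG u) (Nat.mod (MG u) M)) (nat_lit 40) z1 u (Nat.mod (MG u) M)) (Nat.ble (nat_lit 43) j)) (Bool.rec (motive := fun _ => Bool) (mRel MG [T_ei, T_zi] [T_zi, T_ei] M (Nat.sub (MG u) (Nat.mod (MG u) M)) (nat_lit 40) z1 u (Nat.mod (MG u) M)) (mRel MG [T_bi, T_di, T_b, T_b] [T_di, T_bi] M (Nat.sub (MG u) (Nat.mod (MG u) M)) (nat_lit 40) z1 u (Nat.mod (MG u) M)) (Nat.ble (nat_lit 45) j)) (Nat.ble (nat_lit 44) j)) (Bool.rec (motive := fun _ => Bool) (Bool.rec (motive := fun _ => Bool) (mRel MG [T_b, T_d, T_bi, T_di,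 T_b] [T_bi] M (Nat.sub (MG u) (Nat.mod (MG u) M)) (nat_lit 40) z1 u (Nat.mod (MG u) M)) (mRel MG [T_b, T_d, T_bi] [T_bi, T_bi, T_d] M (Nat.sub (MG u) (Nat.mod (MG u) M)) (nat_lit 40) z1 u (Nat.mod (MG u) M)) (Nat.ble (nat_lit 47) j)) (Bool.rec (motive := fun _ => Bool) (mRel MG [T_bi, T_d, T_b, T_ei, T_bi, T_e, T_b, T_ei, T_bi] [T_ei, T_bi, T_e] M (Nat.sub (MG u) (Nat.mod (MG u) M)) (nat_lit 40) z1 u (Nat.mod (MG u) M)) (mRel MG [T_e, T_e] [T_ei, T_ei, T_ei] M (Nat.sub (MG u) (Nat.mod (MG u) M)) (nat_lit 40) z1 u (Nat.mod (MG u) M)) (Nat.ble (nat_lit 49) j)) (Nat.ble (nat_lit 48) j)) (Nat.ble (nat_lit 46) j)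
noncomputable def dM_8 (j z1 z2 u : ℕ) : Bool :=
  Bool.rec (motive := fun _ => Bool) (dM_6 j z1 z2 u) (dM_7 j z1 z2 u) (Nat.ble (nat_lit 42) j)
noncomputable def dM_9 (j z1 z2 u : ℕ) : Bool :=
  Bool.rec (motive := fun _ => Bool) (Bool.rec (motive := fun _ => Bool) (mRel MG [T_di, T_bi] [T_bi, T_di, T_b, T_b] M (Nat.sub (MG u) (Nat.mod (MG u) M)) (nat_lit 40) z1 u (Nat.mod (MG u) M)) (Bool.rec (motive := fun _ => Bool) (mRel MG [T_zi, T_bi] [T_bi, T_zi] M (Nat.sub (MG u) (Nat.mod (MG u) M)) (nat_lit 40) z1 u (Nat.mod (MG u) M)) (mRel MG [T_di, T_b, T_b, T_b] [T_b, T_di] M (Nat.sub (MG u) (Nat.mod (MG u) M)) (nat_lit 40) z1 u (Nat.mod (MG u) M)) (Nat.ble (nat_lit 52) j)) (Nat.ble (nat_lit 51) j)) (Bool.rec (motive := fun _ => Bool) (Bool.rec (motive := fun _ => Bool) (mRel MG [T_b, T_ei, T_bi, T_e, T_b] [T_di, T_b, T_ei, T_bi, T_e, T_b, T_e]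 M (Nat.sub (MG u) (Nat.mod (MG u) M)) (nat_lit 40) z1 u (Nat.mod (MG u) M)) (mRel MG [T_z, T_ei] [T_ei, T_z] M (Nat.sub (MG u) (Nat.mod (MG u) M)) (nat_lit 40) z1 u (Nat.mod (MG u) M)) (Nat.ble (nat_lit 54) j)) (Bool.rec (motive := fun _ => Bool) (mRel MG [T_b, T_e, T_d, T_b] [T_z, T_di, T_ei] M (Nat.sub (MG u) (Nat.mod (MG u) M)) (nat_lit 40) z1 u (Nat.mod (MG u) M)) (mRel MG [T_b, T_b, T_d, T_bi] [T_bi, T_d] M (Nat.sub (MG u) (Nat.mod (MG u) M)) (nat_lit 40) z1 u (Nat.mod (MG u) M)) (Nat.ble (nat_lit 56) j)) (Nat.ble (nat_lit 55) j)) (Nat.ble (nat_lit 53) j)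
noncomputable def dM_10 (j z1 z2 u : ℕ) : Bool :=
  Bool.rec (motive := fun _ => Bool) (Bool.rec (motive := fun _ => Bool) (mRel MG [T_z, T_b] [T_b, T_z] M (Nat.sub (MG u) (Nat.mod (MG u) M)) (nat_lit 40) z1 u (Nat.mod (MG u) M)) (mRel MG [T_b, T_b] [T_d, T_b, T_di, T_bi] M (Nat.sub (MG u) (Nat.mod (MG u) M)) (nat_lit 40) z1 u (Nat.mod (MG u) M)) (Nat.ble (nat_lit 58) j)) (Bool.rec (motive := fun _ => Bool) (Bool.rec (motive := fun _ => Bool) (mRel MG [T_di, T_bi, T_di, T_ei, T_d, T_e, T_di, T_e, T_d, T_b, T_d, T_e] [] M (Nat.sub (MG u) (Nat.mod (MG u) M)) (nat_lit 40) z1 u (Nat.mod (MG u) M)) (mRel MG [T_ei, T_bi, T_e, T_b, T_e, T_bi, T_ei] [T_bi, T_d, T_b, T_ei, T_bi] M (Nat.sub (MG u) (Nat.mod (MG u) M)) (nat_lit 40) z1 u (Nat.mod (MG u) M)) (Nat.ble (nat_lit 60) j)) (Bool.rec (motive := fun _ => Bool) (mRel MG [T_d, T_z] [T_z, T_d] M (Nat.sub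 (MG u) (Nat.mod (MG u) M)) (nat_lit 40) z1 u (Nat.mod (MG u) M)) (mRel MG [T_ei, T_d, T_e, T_di, T_e, T_d, T_b, T_d] [T_d, T_b, T_d, T_ei] M (Nat.sub (MG u) (Nat.mod (MG u) M)) (nat_lit 40) z1 u (Nat.mod (MG u) M)) (Nat.ble (nat_lit 62) j)) (Nat.ble (nat_lit 61) j)) (Nat.ble (nat_lit 59) j)
noncomputable def dM_11 (j z1 z2 u : ℕ) : Bool :=
  Bool.rec (motive := fun _ => Bool) (Bool.rec (motive := fun _ => Bool) (Bool.rec (motive := fun _ => Bool) (mRel MG [T_zi, T_e] [T_e, T_zi] M (Nat.sub (MG u) (Nat.mod (MG u) M)) (nat_lit 40) z1 u (Nat.mod (MG u) M)) (mRel MG [T_di, T_ei, T_bi, T_z, T_di] [T_b, T_e] M (Nat.sub (MG u) (Nat.mod (MG u) M)) (nat_lit 40) z1 u (Nat.mod (MG u) M)) (Nat.ble (nat_lit 64) j)) (Bool.rec (motive := fun _ => Bool) (mRel MG [T_di, T_ei, T_d, T_ei, T_di] [T_b, T_d, T_e, T_di, T_bi, T_di, T_ei] M (Nat.sub (MG u) (Nat.mod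 (MG u) M)) (nat_lit 40) z1 u (Nat.mod (MG u) M)) (mRel MG [T_b, T_d, T_ei, T_di, T_bi, T_di, T_ei, T_d] [T_di, T_ei, T_d, T_e] M (Nat.sub (MG u) (Nat.mod (MG u) M)) (nat_lit 40) z1 u (Nat.mod (MG u) M)) (Nat.ble (nat_lit 66) j)) (Nat.ble (nat_lit 65) j)) (Bool.rec (motive := fun _ => Bool) (Bool.rec (motive := fun _ => Bool) (mRel MG [T_b, T_ei, T_bi, T_e, T_b, T_e, T_bi] [T_d, T_b, T_ei, T_bi, T_e] M (Nat.sub (MG u) (Nat.mod (MG u) M)) (nat_lit 40) z1 u (Nat.mod (MG u) M)) (mRel MG [T_bi, T_di, T_b] [T_di, T_bi, T_bi] M (Nat.sub (MG u) (Nat.mod (MG u) M)) (nat_lit 40) z1 u (Nat.mod (MG u) M)) (Nat.ble (nat_lit 68) j)) (Bool.rec (motive := fun _ => Bool) (mRel MG [T_di, T_bi, T_di, T_ei, T_d, T_e] [T_ei, T_di, T_bi, T_di, T_ei, T_d] M (Nat.sub (MG u) (Nat.mod (MG u) M)) (nat_lit 40) z1 u (Nat.mod (MG u) M)) (mRel MG [T_e, T_b, T_ei, T_bi, T_ei,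 T_b, T_e, T_bi, T_d, T_b, T_ei] [T_b] M (Nat.sub (MG u) (Nat.mod (MG u) M)) (nat_lit 40) z1 u (Nat.mod (MG u) M)) (Nat.ble (nat_lit 70) j)) (Nat.ble (nat_lit 69) j)) (Nat.ble (nat_lit 67) j)
noncomputable def dM_12 (j z1 z2 u : ℕ) : Bool :=
  Bool.rec (motive := fun _ => Bool) (dM_10 j z1 z2 u) (dM_11 j z1 z2 u) (Nat.ble (nat_lit 63) j)
noncomputable def dM_13 (j z1 z2 u : ℕ) : Bool :=
  Bool.rec (motive := fun _ => Bool) (dM_9 j z1 z2 u) (dM_12 j z1 z2 u) (Nat.ble (nat_lit 57) j)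
noncomputable def dM_14 (j z1 z2 u : ℕ) : Bool :=
  Bool.rec (motive := fun _ => Bool) (dM_8 j z1 z2 u) (dM_13 j z1 z2 u) (Nat.ble (nat_lit 50) j)
noncomputable def dM_15 (j z1 z2 u : ℕ) : Bool :=
  Bool.rec (motive := fun _ => Bool) (dM_5 j z1 z2 u) (dM_14 j z1 z2 u) (Nat.ble (nat_lit 35) j)
noncomputable def dM_16 (j z1 z2 u : ℕ) : Bool :=
  Bool.rec (motive := fun _ => Bool) (Bool.rec (motive := fun _ => Bool) (mRel MG [T_b, T_ei, T_bi, T_ei, T_b, T_e, T_bi] [T_ei, T_b, T_e, T_bi, T_di] M (Nat.sub (MG u) (Nat.mod (MG u) M)) (nat_lit 40) z1 u (Nat.mod (MG u) M)) (Bool.rec (motive := fun _ => Bool) (mRel MG [T_b, T_e, T_di, T_bi, T_d, T_e, T_di, T_b, T_d, T_ei, T_bi, T_e, T_e] [] M (Nat.sub (MG u) (Nat.mod (MG u) M)) (nat_lit 40) z1 u (Nat.mod (MG u) M)) (mRel MG [T_b, T_e, T_bi, T_d, T_b, T_ei, T_bi, T_e, T_b, T_ei, T_bi, T_ei] [] M (Nat.sub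 (MG u) (Nat.mod (MG u) M)) (nat_lit 40) z1 u (Nat.mod (MG u) M)) (Nat.ble (nat_lit 73) j)) (Nat.ble (nat_lit 72) j)) (Bool.rec (motive := fun _ => Bool) (Bool.rec (motive := fun _ => Bool) (mRel MG [T_b, T_e, T_bi, T_ei] [T_ei, T_b, T_e, T_bi, T_d, T_b, T_ei, T_bi] M (Nat.sub (MG u) (Nat.mod (MG u) M)) (nat_lit 40) z1 u (Nat.mod (MG u) M)) (mRel MG [T_b, T_e, T_d] [T_z, T_di, T_ei, T_bi] M (Nat.sub (MG u) (Nat.mod (MG u) M)) (nat_lit 40) z1 u (Nat.mod (MG u) M)) (Nat.ble (nat_lit 75) j)) (Bool.rec (motive := fun _ => Bool) (mRel MG [T_e] [T_bi, T_di, T_e, T_b, T_e, T_di, T_ei, T_bi, T_ei, T_d, T_b, T_ei] M (Nat.sub (MG u) (Nat.mod (MG u) M)) (nat_lit 40) z1 u (Nat.mod (MG u) M)) (mRel MG [T_ei, T_b, T_e, T_bi, T_d, T_b] [T_b, T_e, T_bi, T_ei, T_b, T_e] M (Nat.sub (MG u) (Nat.mod (MG u) M)) (nat_lit 40) z1 u (Nat.mod (MG u) M)) (Nat.ble (nat_lit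 77) j)) (Nat.ble (nat_lit 76) j)) (Nat.ble (nat_lit 74) j)
noncomputable def dM_17 (j z1 z2 u : ℕ) : Bool :=
  Bool.rec (motive := fun _ => Bool) (Bool.rec (motive := fun _ => Bool) (Bool.rec (motive := fun _ => Bool) (mRel MG [T_d, T_b, T_di] [T_b, T_b, T_b] M (Nat.sub (MG u) (Nat.mod (MG u) M)) (nat_lit 40) z1 u (Nat.mod (MG u) M)) (mRel MG [T_e, T_d, T_b, T_e, T_d, T_zi] [T_bi] M (Nat.sub (MG u) (Nat.mod (MG u) M)) (nat_lit 40) z1 u (Nat.mod (MG u) M)) (Nat.ble (nat_lit 79) j)) (Bool.rec (motive := fun _ => Bool) (mRel MG [T_zi, T_e, T_z] [T_e] M (Nat.sub (MG u) (Nat.mod (MG u) M)) (nat_lit 40) z1 u (Nat.mod (MG u) M)) (mRel MG [T_b, T_d, T_ei, T_di, T_bi, T_di, T_ei, T_d, T_ei] [T_di, T_ei, T_d] M (Nat.sub (MG u) (Nat.mod (MG u) M)) (nat_lit 40) z1 u (Nat.mod (MG u) M)) (Nat.ble (nat_lit 81) j)) (Nat.ble (nat_lit 80) j)) (Bool.rec (motive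 := fun _ => Bool) (Bool.rec (motive := fun _ => Bool) (mRel MG [T_d, T_d, T_b] [T_bi, T_bi, T_d, T_d] M (Nat.sub (MG u) (Nat.mod (MG u) M)) (nat_lit 40) z1 u (Nat.mod (MG u) M)) (mRel MG [T_d, T_b, T_e, T_bi, T_di, T_e, T_b, T_e, T_di, T_di, T_ei, T_bi] [T_e] M (Nat.sub (MG u) (Nat.mod (MG u) M)) (nat_lit 40) z1 u (Nat.mod (MG u) M)) (Nat.ble (nat_lit 83) j)) (Bool.rec (motive := fun _ => Bool) (mRel MG [T_di, T_bi, T_di, T_ei] [T_ei, T_di, T_bi, T_di, T_ei, T_d, T_ei, T_di] M (Nat.sub (MG u) (Nat.mod (MG u) M)) (nat_lit 40) z1 u (Nat.mod (MG u) M)) (mRel MG [T_z, T_di, T_ei, T_bi, T_di] [T_b, T_e] M (Nat.sub (MG u) (Nat.mod (MG u) M)) (nat_lit 40) z1 u (Nat.mod (MG u) M)) (Nat.ble (nat_lit 85) j)) (Nat.ble (nat_lit 84) j)) (Nat.ble (nat_lit 82) j)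
noncomputable def dM_18 (j z1 z2 u : ℕ) : Bool :=
  Bool.rec (motive := fun _ => Bool) (dM_16 j z1 z2 u) (dM_17 j z1 z2 u) (Nat.ble (nat_lit 78) j)
noncomputable def dM_19 (j z1 z2 u : ℕ) : Bool :=
  Bool.rec (motive := fun _ => Bool) (Bool.rec (motive := fun _ => Bool) (mRel MG [T_ei, T_bi, T_di, T_ei, T_bi] [T_d, T_zi] M (Nat.sub (MG u) (Nat.mod (MG u) M)) (nat_lit 40) z1 u (Nat.mod (MG u) M)) (Bool.rec (motive := fun _ => Bool) (mRel MG [T_ei, T_bi, T_z, T_di, T_ei] [T_d, T_b] M (Nat.sub (MG u) (Nat.mod (MG u) M)) (nat_lit 40) z1 u (Nat.mod (MG u) M)) (mRel MG [T_bi, T_di, T_b, T_ei, T_bi, T_e, T_b, T_e, T_bi] [T_ei, T_bi, T_e] M (Nat.sub (MG u) (Nat.mod (MG u) M)) (nat_lit 40) z1 u (Nat.mod (MG u) M)) (Nat.ble (nat_lit 88) j)) (Nat.ble (nat_lit 87) j)) (Bool.rec (motive := fun _ => Bool) (Bool.rec (motive := fun _ => Bool) (mRel MG [T_di,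 T_bi, T_di, T_ei, T_d, T_ei, T_di, T_e, T_d, T_b] [T_e, T_di] M (Nat.sub (MG u) (Nat.mod (MG u) M)) (nat_lit 40) z1 u (Nat.mod (MG u) M)) (mRel MG [T_di, T_di, T_di, T_di] [T_d] M (Nat.sub (MG u) (Nat.mod (MG u) M)) (nat_lit 40) z1 u (Nat.mod (MG u) M)) (Nat.ble (nat_lit 90) j)) (Bool.rec (motive := fun _ => Bool) (mRel MG [T_b, T_b, T_b] [T_di, T_bi, T_bi, T_d] M (Nat.sub (MG u) (Nat.mod (MG u) M)) (nat_lit 40) z1 u (Nat.mod (MG u) M)) (mRel MG [T_bi, T_ei, T_b, T_e, T_bi, T_d, T_b, T_ei, T_bi] [T_e, T_bi, T_ei] M (Nat.sub (MG u) (Nat.mod (MG u) M)) (nat_lit 40) z1 u (Nat.mod (MG u) M)) (Nat.ble (nat_lit 92) j)) (Nat.ble (nat_lit 91) j)) (Nat.ble (nat_lit 89) j)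
noncomputable def dM_20 (j z1 z2 u : ℕ) : Bool :=
  Bool.rec (motive := fun _ => Bool) (Bool.rec (motive := fun _ => Bool) (Bool.rec (motive := fun _ => Bool) (mRel MG [T_di, T_e, T_d, T_b, T_d, T_ei, T_di, T_bi, T_di, T_ei, T_d, T_ei] [] M (Nat.sub (MG u) (Nat.mod (MG u) M)) (nat_lit 40) z1 u (Nat.mod (MG u) M)) (mRel MG [T_ei, T_b, T_e, T_bi, T_d, T_b, T_ei, T_bi, T_e, T_b] [T_b, T_e] M (Nat.sub (MG u) (Nat.mod (MG u) M)) (nat_lit 40) z1 u (Nat.mod (MG u) M)) (Nat.ble (nat_lit 94) j)) (Bool.rec (motive := fun _ => Bool) (mRel MG [T_bi, T_zi, T_b] [T_zi] M (Nat.sub (MG u) (Nat.mod (MG u) M)) (nat_lit 40) z1 u (Nat.mod (MG u) M)) (mRel MG [T_b, T_d] [T_bi, T_bi, T_d, T_b] M (Nat.sub (MG u) (Nat.mod (MG u) M)) (nat_lit 40) z1 u (Nat.mod (MG u) M)) (Nat.ble (nat_lit 96) j)) (Nat.ble (nat_lit 95) j)) (Bool.rec (motive := fun _ => Bool) (Bool.rec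 (motive := fun _ => Bool) (mRel MG [T_b, T_e, T_bi, T_di, T_b, T_ei, T_bi, T_e] [T_e, T_b, T_ei, T_bi] M (Nat.sub (MG u) (Nat.mod (MG u) M)) (nat_lit 40) z1 u (Nat.mod (MG u) M)) (mRel MG [T_e, T_d, T_b, T_d, T_e, T_di, T_bi, T_di, T_ei] [T_d, T_ei, T_di] M (Nat.sub (MG u) (Nat.mod (MG u) M)) (nat_lit 40) z1 u (Nat.mod (MG u) M)) (Nat.ble (nat_lit 98) j)) (Bool.rec (motive := fun _ => Bool) (mRel MG [T_d, T_b, T_b, T_b] [T_bi, T_bi, T_d] M (Nat.sub (MG u) (Nat.mod (MG u) M)) (nat_lit 40) z1 u (Nat.mod (MG u) M)) (mRel MG [T_b, T_ei, T_bi, T_ei, T_b] [T_ei, T_b, T_e, T_bi, T_di, T_b, T_ei] M (Nat.sub (MG u) (Nat.mod (MG u) M)) (nat_lit 40) z1 u (Nat.mod (MG u) M)) (Nat.ble (nat_lit 100) j)) (Nat.ble (nat_lit 99) j)) (Nat.ble (nat_lit 97) j)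
noncomputable def dM_21 (j z1 z2 u : ℕ) : Bool :=
  Bool.rec (motive := fun _ => Bool) (dM_19 j z1 z2 u) (dM_20 j z1 z2 u) (Nat.ble (nat_lit 93) j)
noncomputable def dM_22 (j z1 z2 u : ℕ) : Bool :=
  Bool.rec (motive := fun _ => Bool) (dM_18 j z1 z2 u) (dM_21 j z1 z2 u) (Nat.ble (nat_lit 86) j)
noncomputable def dM_23 (j z1 z2 u : ℕ) : Bool :=
  Bool.rec (motive := fun _ => Bool) (Bool.rec (motive := fun _ => Bool) (mRel MG [T_b, T_b, T_d, T_b] [T_d, T_bi, T_bi] M (Nat.sub (MG u) (Nat.mod (MG u) M)) (nat_lit 40) z1 u (Nat.mod (MG u) M)) (Bool.rec (motive := fun _ => Bool) (mRel MG [T_d, T_bi, T_di] [T_bi, T_bi, T_bi] M (Nat.sub (MG u) (Nat.mod (MG u) M)) (nat_lit 40) z1 u (Nat.mod (MG u) M)) (mRel MG [T_bi, T_d, T_b] [T_b, T_b, T_d] M (Nat.sub (MG u) (Nat.mod (MG u) M)) (nat_lit 40) z1 u (Nat.mod (MG u) M)) (Nat.ble (nat_lit 103) j)) (Nat.ble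 (nat_lit 102) j)) (Bool.rec (motive := fun _ => Bool) (Bool.rec (motive := fun _ => Bool) (mRel MG [T_bi, T_di, T_b, T_ei, T_bi] [T_ei, T_bi, T_e, T_b, T_ei, T_bi, T_ei] M (Nat.sub (MG u) (Nat.mod (MG u) M)) (nat_lit 40) z1 u (Nat.mod (MG u) M)) (mRel MG [T_b, T_ei, T_bi, T_e] [T_di, T_b, T_ei, T_bi, T_e, T_b, T_e, T_bi] M (Nat.sub (MG u) (Nat.mod (MG u) M)) (nat_lit 40) z1 u (Nat.mod (MG u) M)) (Nat.ble (nat_lit 105) j)) (Bool.rec (motive := fun _ => Bool) (mRel MG [T_d, T_b] [T_b, T_b, T_b, T_d] M (Nat.sub (MG u) (Nat.mod (MG u) M)) (nat_lit 40) z1 u (Nat.mod (MG u) M)) (mRel MG [T_bi, T_bi, T_d, T_b, T_di] [T_b] M (Nat.sub (MG u) (Nat.mod (MG u) M)) (nat_lit 40) z1 u (Nat.mod (MG u) M)) (Nat.ble (nat_lit 107) j)) (Nat.ble (nat_lit 106) j)) (Nat.ble (nat_lit 104) j)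
noncomputable def dM_24 (j z1 z2 u : ℕ) : Bool :=
  Bool.rec (motive := fun _ => Bool) (Bool.rec (motive := fun _ => Bool) (Bool.rec (motive := fun _ => Bool) (mRel MG [T_d, T_d, T_bi, T_e, T_bi, T_bi] [T_bi, T_e, T_bi, T_bi, T_ei, T_di, T_e] M (Nat.sub (MG u) (Nat.mod (MG u) M)) (nat_lit 40) z1 u (Nat.mod (MG u) M)) (mRel MG [T_e, T_d, T_b, T_e, T_d] [T_bi, T_z] M (Nat.sub (MG u) (Nat.mod (MG u) M)) (nat_lit 40) z1 u (Nat.mod (MG u) M)) (Nat.ble (nat_lit 109) j)) (Bool.rec (motive := fun _ => Bool) (mRel MG [T_ei, T_b, T_e, T_bi, T_d, T_b, T_ei, T_bi] [T_b, T_e, T_bi, T_ei] M (Nat.sub (MG u) (Nat.mod (MG u) M)) (nat_lit 40) z1 u (Nat.mod (MG u) M)) (mRel MG [T_d, T_e, T_di, T_e, T_d, T_b, T_d, T_e] [T_e, T_d, T_b, T_d] M (Nat.sub (MG u) (Nat.mod (MG u) M)) (nat_lit 40) z1 u (Nat.mod (MG u) M)) (Nat.ble (nat_lit 111) j)) (Nat.ble (nat_lit 110)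 j)) (Bool.rec (motive := fun _ => Bool) (Bool.rec (motive := fun _ => Bool) (mRel MG [T_ei, T_di, T_bi] [T_di, T_bi, T_di, T_ei, T_d, T_e, T_di, T_e, T_d] M (Nat.sub (MG u) (Nat.mod (MG u) M)) (nat_lit 40) z1 u (Nat.mod (MG u) M)) (mRel MG [T_di, T_ei, T_d, T_e, T_di, T_e, T_d, T_b] [T_b, T_d, T_ei, T_di] M (Nat.sub (MG u) (Nat.mod (MG u) M)) (nat_lit 40) z1 u (Nat.mod (MG u) M)) (Nat.ble (nat_lit 113) j)) (Bool.rec (motive := fun _ => Bool) (mRel MG [T_d, T_b, T_d, T_e, T_di, T_bi, T_di, T_ei, T_d, T_e, T_di] [T_ei] M (Nat.sub (MG u) (Nat.mod (MG u) M)) (nat_lit 40) z1 u (Nat.mod (MG u) M)) (mRel MG [T_di, T_b, T_b] [T_b, T_di, T_bi] M (Nat.sub (MG u) (Nat.mod (MG u) M)) (nat_lit 40) z1 u (Nat.mod (MG u) M)) (Nat.ble (nat_lit 115) j)) (Nat.ble (nat_lit 114) j)) (Nat.ble (nat_lit 112) j)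
noncomputable def dM_25 (j z1 z2 u : ℕ) : Bool :=
  Bool.rec (motive := fun _ => Bool) (dM_23 j z1 z2 u) (dM_24 j z1 z2 u) (Nat.ble (nat_lit 108) j)
noncomputable def dM_26 (j z1 z2 u : ℕ) : Bool :=
  Bool.rec (motive := fun _ => Bool) (Bool.rec (motive := fun _ => Bool) (mRel MG [T_e, T_d] [T_bi, T_z, T_di, T_ei, T_bi] M (Nat.sub (MG u) (Nat.mod (MG u) M)) (nat_lit 40) z1 u (Nat.mod (MG u) M)) (Bool.rec (motive := fun _ => Bool) (mRel MG [T_b, T_di, T_di] [T_di, T_di, T_bi, T_bi] M (Nat.sub (MG u) (Nat.mod (MG u) M)) (nat_lit 40) z1 u (Nat.mod (MG u) M)) (mRel MG [T_z, T_b, T_zi] [T_b] M (Nat.sub (MG u) (Nat.mod (MG u) M)) (nat_lit 40) z1 u (Nat.mod (MG u) M)) (Nat.ble (nat_lit 118) j)) (Nat.ble (nat_lit 117) j)) (Bool.rec (motive := fun _ => Bool) (Bool.rec (motive := fun _ => Bool) (mRel MG [T_di, T_bi, T_di, T_ei, T_d, T_e, T_di, T_e] [T_ei,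 T_di, T_bi, T_di] M (Nat.sub (MG u) (Nat.mod (MG u) M)) (nat_lit 40) z1 u (Nat.mod (MG u) M)) (mRel MG [T_zi, T_ei] [T_ei, T_zi] M (Nat.sub (MG u) (Nat.mod (MG u) M)) (nat_lit 40) z1 u (Nat.mod (MG u) M)) (Nat.ble (nat_lit 120) j)) (Bool.rec (motive := fun _ => Bool) (mRel MG [T_b, T_ei, T_bi, T_e, T_b, T_ei] [T_di, T_b, T_ei, T_bi, T_e, T_b] M (Nat.sub (MG u) (Nat.mod (MG u) M)) (nat_lit 40) z1 u (Nat.mod (MG u) M)) (mRel MG [T_e, T_zi, T_ei] [T_zi] M (Nat.sub (MG u) (Nat.mod (MG u) M)) (nat_lit 40) z1 u (Nat.mod (MG u) M)) (Nat.ble (nat_lit 122) j)) (Nat.ble (nat_lit 121) j)) (Nat.ble (nat_lit 119) j)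
noncomputable def dM_27 (j z1 z2 u : ℕ) : Bool :=
  Bool.rec (motive := fun _ => Bool) (Bool.rec (motive := fun _ => Bool) (Bool.rec (motive := fun _ => Bool) (mRel MG [T_d, T_bi, T_e, T_bi, T_bi, T_ei, T_d, T_e, T_b, T_b, T_ei] [T_di, T_bi] M (Nat.sub (MG u) (Nat.mod (MG u) M)) (nat_lit 40) z1 u (Nat.mod (MG u) M)) (mRel MG [T_d, T_zi, T_b, T_e] [T_ei, T_bi, T_di] M (Nat.sub (MG u) (Nat.mod (MG u) M)) (nat_lit 40) z1 u (Nat.mod (MG u) M)) (Nat.ble (nat_lit 124) j)) (Bool.rec (motive := fun _ => Bool) (mRel MG [T_ei, T_b, T_e, T_bi, T_di, T_b, T_ei] [T_b, T_ei, T_bi, T_ei, T_b] M (Nat.sub (MG u) (Nat.mod (MG u) M)) (nat_lit 40) z1 u (Nat.mod (MG u) M)) (mRel MG [T_z, T_di, T_ei, T_bi, T_di, T_ei, T_bi] [] M (Nat.sub (MG u) (Nat.mod (MG u) M)) (nat_lit 40) z1 u (Nat.mod (MG u) M)) (Nat.ble (nat_lit 126) j)) (Nat.ble (nat_lit 125) j)) (Bool.rec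 (motive := fun _ => Bool) (Bool.rec (motive := fun _ => Bool) (mRel MG [T_b, T_b, T_ei, T_b, T_di, T_di, T_bi, T_e, T_bi, T_bi, T_ei] [T_ei, T_d] M (Nat.sub (MG u) (Nat.mod (MG u) M)) (nat_lit 40) z1 u (Nat.mod (MG u) M)) (mRel MG [T_di, T_z] [T_z, T_di] M (Nat.sub (MG u) (Nat.mod (MG u) M)) (nat_lit 40) z1 u (Nat.mod (MG u) M)) (Nat.ble (nat_lit 128) j)) (Bool.rec (motive := fun _ => Bool) (mRel MG [T_zi, T_d, T_z] [T_d] M (Nat.sub (MG u) (Nat.mod (MG u) M)) (nat_lit 40) z1 u (Nat.mod (MG u) M)) (mRel MG [T_ei, T_b, T_e, T_bi, T_di, T_b] [T_b, T_ei, T_bi, T_ei, T_b, T_e] M (Nat.sub (MG u) (Nat.mod (MG u) M)) (nat_lit 40) z1 u (Nat.mod (MG u) M)) (Nat.ble (nat_lit 130) j)) (Nat.ble (nat_lit 129) j)) (Nat.ble (nat_lit 127) j)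
noncomputable def dM_28 (j z1 z2 u : ℕ) : Bool :=
  Bool.rec (motive := fun _ => Bool) (dM_26 j z1 z2 u) (dM_27 j z1 z2 u) (Nat.ble (nat_lit 123) j)
noncomputable def dM_29 (j z1 z2 u : ℕ) : Bool :=
  Bool.rec (motive := fun _ => Bool) (dM_25 j z1 z2 u) (dM_28 j z1 z2 u) (Nat.ble (nat_lit 116) j)
noncomputable def dM_30 (j z1 z2 u : ℕ) : Bool :=
  Bool.rec (motive := fun _ => Bool) (dM_22 j z1 z2 u) (dM_29 j z1 z2 u) (Nat.ble (nat_lit 101) j)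
noncomputable def dM_31 (j z1 z2 u : ℕ) : Bool :=
  Bool.rec (motive := fun _ => Bool) (Bool.rec (motive := fun _ => Bool) (mRel MG [T_bi, T_di, T_ei, T_d] [T_d, T_ei, T_di, T_bi, T_di, T_ei, T_d, T_ei] M (Nat.sub (MG u) (Nat.mod (MG u) M)) (nat_lit 40) z1 u (Nat.mod (MG u) M)) (Bool.rec (motive := fun _ => Bool) (mRel MG [T_ei, T_bi, T_ei, T_b, T_e] [T_bi, T_ei, T_b, T_e, T_bi, T_di, T_b] M (Nat.sub (MG u) (Nat.mod (MG u) M)) (nat_lit 40) z1 u (Nat.mod (MG u) M)) (mRel MG [T_di, T_di, T_bi] [T_b, T_di, T_di, T_b] M (Nat.sub (MG u) (Nat.mod (MG u) M)) (nat_lit 40) z1 u (Nat.mod (MG u) M)) (Nat.ble (nat_lit 133) j)) (Nat.ble (nat_lit 132) j)) (Bool.rec (motive := fun _ => Bool) (Bool.rec (motive := fun _ => Bool) (mRel MG [T_e, T_bi, T_di, T_b, T_ei, T_bi, T_e, T_b, T_e, T_bi] [T_bi, T_e] M (Nat.sub (MG u) (Nat.mod (MG u) M)) (nat_lit 40) z1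 u (Nat.mod (MG u) M)) (mRel MG [T_bi, T_ei, T_b, T_e, T_bi, T_di, T_b, T_ei] [T_ei, T_bi, T_ei, T_b] M (Nat.sub (MG u) (Nat.mod (MG u) M)) (nat_lit 40) z1 u (Nat.mod (MG u) M)) (Nat.ble (nat_lit 135) j)) (Bool.rec (motive := fun _ => Bool) (mRel MG [T_bi, T_e] [T_e, T_bi, T_d, T_b, T_ei, T_bi, T_e, T_b, T_ei, T_bi] M (Nat.sub (MG u) (Nat.mod (MG u) M)) (nat_lit 40) z1 u (Nat.mod (MG u) M)) (mRel MG [T_ei, T_d, T_ei, T_di, T_e, T_d, T_b, T_d, T_ei] [T_d, T_b, T_d] M (Nat.sub (MG u) (Nat.mod (MG u) M)) (nat_lit 40) z1 u (Nat.mod (MG u) M)) (Nat.ble (nat_lit 137) j)) (Nat.ble (nat_lit 136) j)) (Nat.ble (nat_lit 134) j)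
noncomputable def dM_32 (j z1 z2 u : ℕ) : Bool :=
  Bool.rec (motive := fun _ => Bool) (Bool.rec (motive := fun _ => Bool) (Bool.rec (motive := fun _ => Bool) (mRel MG [T_b, T_di, T_bi] [T_di, T_b, T_b] M (Nat.sub (MG u) (Nat.mod (MG u) M)) (nat_lit 40) z1 u (Nat.mod (MG u) M)) (mRel MG [T_d, T_b, T_d, T_ei, T_di] [T_ei, T_d, T_e, T_di, T_e, T_d, T_b] M (Nat.sub (MG u) (Nat.mod (MG u) M)) (nat_lit 40) z1 u (Nat.mod (MG u) M)) (Nat.ble (nat_lit 139) j)) (Bool.rec (motive := fun _ => Bool) (mRel MG [T_di, T_e, T_d, T_b, T_d, T_ei, T_di, T_bi, T_di, T_ei] [T_e, T_di] M (Nat.sub (MG u) (Nat.mod (MG u) M)) (nat_lit 40) z1 u (Nat.mod (MG u) M)) (mRel MG [T_d, T_bi] [T_di, T_b, T_b, T_d, T_d] M (Nat.sub (MG u) (Nat.mod (MG u) M)) (nat_lit 40) z1 u (Nat.mod (MG u) M)) (Nat.ble (nat_lit 141) j)) (Nat.ble (nat_lit 140) j)) (Bool.rec (motive := fun _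 => Bool) (Bool.rec (motive := fun _ => Bool) (mRel MG [T_b, T_b, T_b] [T_d, T_b, T_di] M (Nat.sub (MG u) (Nat.mod (MG u) M)) (nat_lit 40) z1 u (Nat.mod (MG u) M)) (mRel MG [T_d, T_e] [T_e, T_d, T_b, T_d, T_ei, T_di, T_bi, T_di, T_ei, T_d] M (Nat.sub (MG u) (Nat.mod (MG u) M)) (nat_lit 40) z1 u (Nat.mod (MG u) M)) (Nat.ble (nat_lit 143) j)) (Bool.rec (motive := fun _ => Bool) (mRel MG [T_ei, T_ei, T_ei] [T_e, T_e] M (Nat.sub (MG u) (Nat.mod (MG u) M)) (nat_lit 40) z1 u (Nat.mod (MG u) M)) (mRel MG [T_e, T_di, T_e, T_d] [T_di, T_e, T_d, T_b, T_d, T_ei, T_di, T_bi] M (Nat.sub (MG u) (Nat.mod (MG u) M)) (nat_lit 40) z1 u (Nat.mod (MG u) M)) (Nat.ble (nat_lit 145) j)) (Nat.ble (nat_lit 144) j)) (Nat.ble (nat_lit 142) j)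
noncomputable def dM_33 (j z1 z2 u : ℕ) : Bool :=
  Bool.rec (motive := fun _ => Bool) (dM_31 j z1 z2 u) (dM_32 j z1 z2 u) (Nat.ble (nat_lit 138) j)
noncomputable def dM_34 (j z1 z2 u : ℕ) : Bool :=
  Bool.rec (motive := fun _ => Bool) (Bool.rec (motive := fun _ => Bool) (mRel MG [T_di, T_bi, T_di, T_ei, T_d, T_ei, T_di] [T_e, T_di, T_bi, T_di, T_ei] M (Nat.sub (MG u) (Nat.mod (MG u) M)) (nat_lit 40) z1 u (Nat.mod (MG u) M)) (Bool.rec (motive := fun _ => Bool) (mRel MG [T_ei, T_di, T_bi, T_di, T_ei, T_d, T_ei, T_di, T_e, T_d, T_b, T_d] [] M (Nat.sub (MG u) (Nat.mod (MG u) M)) (nat_lit 40) z1 u (Nat.mod (MG u) M)) (mRel MG [T_e, T_bi, T_di, T_b, T_ei, T_bi, T_e, T_b] [T_bi, T_e, T_b, T_ei] M (Nat.sub (MG u) (Nat.mod (MG u) M)) (nat_lit 40) z1 u (Nat.mod (MG u) M)) (Nat.ble (nat_lit 148) j)) (Nat.ble (nat_lit 147) j)) (Bool.rec (motive := fun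 _ => Bool) (Bool.rec (motive := fun _ => Bool) (mRel MG [T_bi, T_di, T_ei, T_d, T_ei, T_di, T_e] [T_d, T_e, T_di, T_bi, T_di] M (Nat.sub (MG u) (Nat.mod (MG u) M)) (nat_lit 40) z1 u (Nat.mod (MG u) M)) (mRel MG [T_b, T_b, T_d, T_b, T_b] [T_d, T_bi] M (Nat.sub (MG u) (Nat.mod (MG u) M)) (nat_lit 40) z1 u (Nat.mod (MG u) M)) (Nat.ble (nat_lit 150) j)) (Bool.rec (motive := fun _ => Bool) (mRel MG [T_d, T_ei, T_di, T_e, T_d, T_b, T_d, T_ei] [T_e, T_d, T_b, T_d] M (Nat.sub (MG u) (Nat.mod (MG u) M)) (nat_lit 40) z1 u (Nat.mod (MG u) M)) (mRel MG [T_e, T_di, T_b] [T_di, T_b, T_d, T_ei, T_bi, T_ei, T_ei, T_b, T_e, T_di] M (Nat.sub (MG u) (Nat.mod (MG u) M)) (nat_lit 40) z1 u (Nat.mod (MG u) M)) (Nat.ble (nat_lit 152) j)) (Nat.ble (nat_lit 151) j)) (Nat.ble (nat_lit 149) j)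
noncomputable def dM_35 (j z1 z2 u : ℕ) : Bool :=
  Bool.rec (motive := fun _ => Bool) (Bool.rec (motive := fun _ => Bool) (Bool.rec (motive := fun _ => Bool) (mRel MG [T_e, T_z, T_ei] [T_z] M (Nat.sub (MG u) (Nat.mod (MG u) M)) (nat_lit 40) z1 u (Nat.mod (MG u) M)) (mRel MG [T_b, T_b, T_b, T_d, T_bi] [T_d] M (Nat.sub (MG u) (Nat.mod (MG u) M)) (nat_lit 40) z1 u (Nat.mod (MG u) M)) (Nat.ble (nat_lit 154) j)) (Bool.rec (motive := fun _ => Bool) (mRel MG [T_d, T_d] [T_di, T_di, T_di] M (Nat.sub (MG u) (Nat.mod (MG u) M)) (nat_lit 40) z1 u (Nat.mod (MG u) M)) (mRel MG [T_d, T_ei, T_di, T_e, T_d, T_b, T_d, T_ei, T_di] [T_e, T_d, T_b] M (Nat.sub (MG u) (Nat.mod (MG u) M)) (nat_lit 40) z1 u (Nat.mod (MG u) M)) (Nat.ble (nat_lit 156) j)) (Nat.ble (nat_lit 155) j)) (Bool.rec (motive := fun _ => Bool) (Bool.rec (motive := fun _ => Bool) (mRel MG [T_bi,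 T_bi, T_bi, T_d] [T_d, T_bi] M (Nat.sub (MG u) (Nat.mod (MG u) M)) (nat_lit 40) z1 u (Nat.mod (MG u) M)) (mRel MG [T_bi, T_di, T_ei] [T_d, T_ei, T_di, T_bi, T_di, T_ei, T_d, T_ei, T_di] M (Nat.sub (MG u) (Nat.mod (MG u) M)) (nat_lit 40) z1 u (Nat.mod (MG u) M)) (Nat.ble (nat_lit 158) j)) (Bool.rec (motive := fun _ => Bool) (mRel MG [T_di, T_bi, T_di, T_ei, T_d] [T_ei, T_di, T_bi, T_di, T_ei, T_d, T_ei] M (Nat.sub (MG u) (Nat.mod (MG u) M)) (nat_lit 40) z1 u (Nat.mod (MG u) M)) (mRel MG [T_bi, T_di, T_b, T_b, T_b] [T_di] M (Nat.sub (MG u) (Nat.mod (MG u) M)) (nat_lit 40) z1 u (Nat.mod (MG u) M)) (Nat.ble (nat_lit 160) j)) (Nat.ble (nat_lit 159) j)) (Nat.ble (nat_lit 157) j)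
noncomputable def dM_36 (j z1 z2 u : ℕ) : Bool :=
  Bool.rec (motive := fun _ => Bool) (dM_34 j z1 z2 u) (dM_35 j z1 z2 u) (Nat.ble (nat_lit 153) j)
noncomputable def dM_37 (j z1 z2 u : ℕ) : Bool :=
  Bool.rec (motive := fun _ => Bool) (dM_33 j z1 z2 u) (dM_36 j z1 z2 u) (Nat.ble (nat_lit 146) j)
noncomputable def dM_38 (j z1 z2 u : ℕ) : Bool :=
  Bool.rec (motive := fun _ => Bool) (Bool.rec (motive := fun _ => Bool) (mRel MG [T_di, T_ei, T_d] [T_b, T_d, T_ei, T_di, T_bi, T_di, T_ei, T_d, T_ei] M (Nat.sub (MG u) (Nat.mod (MG u) M)) (nat_lit 40) z1 u (Nat.mod (MG u) M)) (Bool.rec (motive := fun _ => Bool) (mRel MG [T_b, T_e, T_d, T_zi, T_b] [T_di, T_ei] M (Nat.sub (MG u) (Nat.mod (MG u) M)) (nat_lit 40) z1 u (Nat.mod (MG u) M)) (mRel MG [T_di, T_ei, T_bi] [T_zi, T_b, T_e, T_d] M (Nat.sub (MG u) (Nat.mod (MG u) M)) (nat_lit 40) z1 u (Nat.mod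 (MG u) M)) (Nat.ble (nat_lit 163) j)) (Nat.ble (nat_lit 162) j)) (Bool.rec (motive := fun _ => Bool) (Bool.rec (motive := fun _ => Bool) (mRel MG [T_d] [T_di, T_di, T_di, T_di] M (Nat.sub (MG u) (Nat.mod (MG u) M)) (nat_lit 40) z1 u (Nat.mod (MG u) M)) (mRel MG [T_b, T_e, T_bi, T_d, T_b, T_ei, T_bi] [T_e, T_b, T_e, T_bi, T_ei] M (Nat.sub (MG u) (Nat.mod (MG u) M)) (nat_lit 40) z1 u (Nat.mod (MG u) M)) (Nat.ble (nat_lit 165) j)) (Bool.rec (motive := fun _ => Bool) (mRel MG [T_e, T_b, T_ei, T_bi] [T_b, T_e, T_bi, T_di, T_b, T_ei, T_bi, T_e] M (Nat.sub (MG u) (Nat.mod (MG u) M)) (nat_lit 40) z1 u (Nat.mod (MG u) M)) (mRel MG [T_b, T_d, T_ei, T_di] [T_di, T_ei, T_d, T_e, T_di, T_e, T_d, T_b] M (Nat.sub (MG u) (Nat.mod (MG u) M)) (nat_lit 40) z1 u (Nat.mod (MG u) M)) (Nat.ble (nat_lit 167) j)) (Nat.ble (nat_lit 166) j)) (Nat.ble (nat_lit 164) j)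
noncomputable def dM_39 (j z1 z2 u : ℕ) : Bool :=
  Bool.rec (motive := fun _ => Bool) (Bool.rec (motive := fun _ => Bool) (Bool.rec (motive := fun _ => Bool) (mRel MG [T_b, T_d, T_ei, T_di, T_bi, T_di, T_ei] [T_di, T_ei, T_d, T_e, T_di] M (Nat.sub (MG u) (Nat.mod (MG u) M)) (nat_lit 40) z1 u (Nat.mod (MG u) M)) (mRel MG [T_di, T_b, T_ei, T_bi, T_e] [T_b, T_ei, T_bi, T_e, T_b, T_ei, T_bi] M (Nat.sub (MG u) (Nat.mod (MG u) M)) (nat_lit 40) z1 u (Nat.mod (MG u) M)) (Nat.ble (nat_lit 169) j)) (Bool.rec (motive := fun _ => Bool) (mRel MG [T_z, T_bi, T_zi] [T_bi] M (Nat.sub (MG u) (Nat.mod (MG u) M)) (nat_lit 40) z1 u (Nat.mod (MG u) M)) (mRel MG [T_ei, T_z] [T_z, T_ei] M (Nat.sub (MG u) (Nat.mod (MG u) M)) (nat_lit 40) z1 u (Nat.mod (MG u) M)) (Nat.ble (nat_lit 171) j)) (Nat.ble (nat_lit 170) j)) (Bool.rec (motive := fun _ => Bool) (Bool.rec (motive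 := fun _ => Bool) (mRel MG [T_di, T_bi] [T_b, T_b, T_b, T_di, T_b] M (Nat.sub (MG u) (Nat.mod (MG u) M)) (nat_lit 40) z1 u (Nat.mod (MG u) M)) (mRel MG [T_bi, T_bi] [T_b, T_di, T_b, T_b, T_d] M (Nat.sub (MG u) (Nat.mod (MG u) M)) (nat_lit 40) z1 u (Nat.mod (MG u) M)) (Nat.ble (nat_lit 173) j)) (Bool.rec (motive := fun _ => Bool) (mRel MG [T_bi, T_di, T_ei, T_d, T_ei] [T_d, T_e, T_di, T_bi, T_di, T_ei, T_d] M (Nat.sub (MG u) (Nat.mod (MG u) M)) (nat_lit 40) z1 u (Nat.mod (MG u) M)) (mRel MG [T_b, T_d, T_bi, T_di] [T_bi, T_bi] M (Nat.sub (MG u) (Nat.mod (MG u) M)) (nat_lit 40) z1 u (Nat.mod (MG u) M)) (Nat.ble (nat_lit 175) j)) (Nat.ble (nat_lit 174) j)) (Nat.ble (nat_lit 172) j)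
noncomputable def dM_40 (j z1 z2 u : ℕ) : Bool :=
  Bool.rec (motive := fun _ => Bool) (dM_38 j z1 z2 u) (dM_39 j z1 z2 u) (Nat.ble (nat_lit 168) j)
noncomputable def dM_41 (j z1 z2 u : ℕ) : Bool :=
  Bool.rec (motive := fun _ => Bool) (Bool.rec (motive := fun _ => Bool) (Bool.rec (motive := fun _ => Bool) (mRel MG [T_d, T_b, T_d, T_ei, T_di, T_bi, T_di, T_ei, T_d, T_ei] [T_ei, T_d] M (Nat.sub (MG u) (Nat.mod (MG u) M)) (nat_lit 40) z1 u (Nat.mod (MG u) M)) (mRel MG [T_d, T_e, T_di] [T_e, T_d, T_b, T_d, T_ei, T_di, T_bi, T_di, T_ei] M (Nat.sub (MG u) (Nat.mod (MG u) M)) (nat_lit 40) z1 u (Nat.mod (MG u) M)) (Nat.ble (nat_lit 177) j)) (Bool.rec (motive := fun _ => Bool) (mRel MG [T_e, T_di, T_bi, T_di, T_ei, T_d] [T_di, T_bi, T_di, T_ei, T_d, T_ei] M (Nat.sub (MG u) (Nat.mod (MG u) M)) (nat_lit 40) z1 u (Nat.mod (MG u) M)) (mRel MG [T_b, T_d,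 T_d, T_b, T_di] [T_bi, T_d] M (Nat.sub (MG u) (Nat.mod (MG u) M)) (nat_lit 40) z1 u (Nat.mod (MG u) M)) (Nat.ble (nat_lit 179) j)) (Nat.ble (nat_lit 178) j)) (Bool.rec (motive := fun _ => Bool) (Bool.rec (motive := fun _ => Bool) (mRel MG [T_b, T_e, T_di, T_bi, T_d] [T_ei, T_ei, T_b, T_e, T_di, T_bi, T_d, T_ei] M (Nat.sub (MG u) (Nat.mod (MG u) M)) (nat_lit 40) z1 u (Nat.mod (MG u) M)) (mRel MG [T_di, T_zi] [T_zi, T_di] M (Nat.sub (MG u) (Nat.mod (MG u) M)) (nat_lit 40) z1 u (Nat.mod (MG u) M)) (Nat.ble (nat_lit 181) j)) (Bool.rec (motive := fun _ => Bool) (mRel MG [T_bi, T_di, T_ei, T_bi, T_z, T_di] [T_e] M (Nat.sub (MG u) (Nat.mod (MG u) M)) (nat_lit 40) z1 u (Nat.mod (MG u) M)) (mRel MG [T_ei, T_bi, T_di, T_e, T_b, T_e, T_d, T_d, T_ei, T_bi, T_ei] [T_bi, T_di] M (Nat.sub (MG u) (Nat.mod (MG u) M)) (nat_lit 40) z1 u (Nat.mod (MG u) M)) (Nat.ble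 (nat_lit 183) j)) (Nat.ble (nat_lit 182) j)) (Nat.ble (nat_lit 180) j)
noncomputable def dM_42 (j z1 z2 u : ℕ) : Bool :=
  Bool.rec (motive := fun _ => Bool) (Bool.rec (motive := fun _ => Bool) (Bool.rec (motive := fun _ => Bool) (mRel MG [T_ei, T_bi, T_z, T_di] [T_d, T_b, T_e] M (Nat.sub (MG u) (Nat.mod (MG u) M)) (nat_lit 40) z1 u (Nat.mod (MG u) M)) (mRel MG [T_bi, T_di, T_di, T_bi, T_bi] [T_di, T_di] M (Nat.sub (MG u) (Nat.mod (MG u) M)) (nat_lit 40) z1 u (Nat.mod (MG u) M)) (Nat.ble (nat_lit 185) j)) (Bool.rec (motive := fun _ => Bool) (mRel MG [T_d, T_bi, T_e, T_bi] [T_bi, T_e, T_bi, T_bi, T_ei, T_d, T_d, T_e, T_b] M (Nat.sub (MG u) (Nat.mod (MG u) M)) (nat_lit 40) z1 u (Nat.mod (MG u) M)) (mRel MG [T_bi, T_bi, T_bi] [T_b, T_di, T_bi, T_d] M (Nat.sub (MG u) (Nat.mod (MG u) M)) (nat_lit 40) z1 u (Nat.mod (MG u) M)) (Nat.ble (nat_lit 187)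 j)) (Nat.ble (nat_lit 186) j)) (Bool.rec (motive := fun _ => Bool) (Bool.rec (motive := fun _ => Bool) (mRel MG [T_bi, T_d, T_d, T_bi, T_di] [T_b, T_d] M (Nat.sub (MG u) (Nat.mod (MG u) M)) (nat_lit 40) z1 u (Nat.mod (MG u) M)) (mRel MG [T_b, T_d, T_e, T_di, T_bi, T_di, T_ei, T_d, T_e, T_di, T_e] [T_di] M (Nat.sub (MG u) (Nat.mod (MG u) M)) (nat_lit 40) z1 u (Nat.mod (MG u) M)) (Nat.ble (nat_lit 189) j)) (Bool.rec (motive := fun _ => Bool) (mRel MG [T_bi, T_di, T_ei, T_bi, T_z] [T_e, T_d] M (Nat.sub (MG u) (Nat.mod (MG u) M)) (nat_lit 40) z1 u (Nat.mod (MG u) M)) (mRel MG [T_ei, T_di, T_ei, T_b, T_di, T_b, T_e] [T_di, T_ei, T_b, T_di, T_b, T_ei] M (Nat.sub (MG u) (Nat.mod (MG u) M)) (nat_lit 40) z1 u (Nat.mod (MG u) M)) (Nat.ble (nat_lit 191) j)) (Nat.ble (nat_lit 190) j)) (Nat.ble (nat_lit 188) j)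
noncomputable def dM_43 (j z1 z2 u : ℕ) : Bool :=
  Bool.rec (motive := fun _ => Bool) (dM_41 j z1 z2 u) (dM_42 j z1 z2 u) (Nat.ble (nat_lit 184) j)
noncomputable def dM_44 (j z1 z2 u : ℕ) : Bool :=
  Bool.rec (motive := fun _ => Bool) (dM_40 j z1 z2 u) (dM_43 j z1 z2 u) (Nat.ble (nat_lit 176) j)
noncomputable def dM_45 (j z1 z2 u : ℕ) : Bool :=
  Bool.rec (motive := fun _ => Bool) (dM_37 j z1 z2 u) (dM_44 j z1 z2 u) (Nat.ble (nat_lit 161) j)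
noncomputable def dM_46 (j z1 z2 u : ℕ) : Bool :=
  Bool.rec (motive := fun _ => Bool) (dM_30 j z1 z2 u) (dM_45 j z1 z2 u) (Nat.ble (nat_lit 131) j)
noncomputable def dM_47 (j z1 z2 u : ℕ) : Bool :=
  Bool.rec (motive := fun _ => Bool) (dM_15 j z1 z2 u) (dM_46 j z1 z2 u) (Nat.ble (nat_lit 71) j)
noncomputable def dM_48 (j z1 z2 u : ℕ) : Bool :=
  Bool.rec (motive := fun _ => Bool) (dM_2 j z1 z2 u) (dM_47 j z1 z2 u) (Nat.ble (nat_lit 16) j)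
noncomputable def dM_49 (j z1 z2 u : ℕ) : Bool :=
  Bool.rec (motive := fun _ => Bool) (dM_1 j z1 z2 u) (dM_48 j z1 z2 u) (Nat.ble (nat_lit 6) j)
noncomputable def dM_50 (j z1 z2 u : ℕ) : Bool :=
  Bool.rec (motive := fun _ => Bool) (dM_0 j z1 z2 u) (dM_49 j z1 z2 u) (Nat.ble (nat_lit 4) j)
noncomputable def chkM (u : ℕ) : Bool :=
  Bool.rec (motive := fun _ => Bool) (band (Nat.ble (Nat.succ (Nat.mod (MG u) M)) u) (dM_50 (Nat.land (MR u) (nat_lit 255)) (Nat.land (Nat.shiftRight (MR u) (nat_lit 8)) (nat_lit 4095)) (Nat.shiftRight (MR u) (nat_lit 20)) u)) true (Nat.ble A (MG u))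
noncomputable def chkN (u : ℕ) : Bool :=
  band (chk_b (Nat.land (Nat.shiftRight (RS u) (nat_lit 0)) (nat_lit 63)) u) (band (chk_bi (Nat.land (Nat.shiftRight (RS u) (nat_lit 6)) (nat_lit 63)) u) (band (chk_d (Nat.land (Nat.shiftRight (RS u) (nat_lit 12)) (nat_lit 63)) u) (band (chk_di (Nat.land (Nat.shiftRight (RS u) (nat_lit 18)) (nat_lit 63)) u) (band (chk_e (Nat.land (Nat.shiftRight (RS u) (nat_lit 24)) (nat_lit 63)) u) (band (chk_ei (Nat.land (Nat.shiftRight (RS u) (nat_lit 30)) (nat_lit 63)) u) (band (chk_z (Nat.land (Nat.shiftRight (RS u) (nat_lit 36)) (nat_lit 63)) u) (band (chk_zi (Nat.land (Nat.shiftRight (RS u) (nat_lit 42)) (nat_lit 63)) u) (chkM u))))))))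
noncomputable def chkP (u : ℕ) : Bool := Bool.rec (motive := fun _ => Bool) (chkN u) true (Nat.ble M u)
noncomputable def liveP (u : ℕ) : Bool := Bool.rec (motive := fun _ => Bool) (Nat.ble A (MG u)) false (Nat.ble M u)
end H35.TCM23B
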